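import Cfsg.Agent.E8A.Par.Main

/-!
# `E₈`: filtrations, Levi parts and unipotent radicals (helper65)

* `Tr l l' x` : `x` carries the filtration of `l` to the filtration of `l'`; `Bl l l' x` : the same for the gradings;
* `cl l l' x` : the block diagonal part; `Ru K l`, `Lev K l` : unipotent radical and Levi subgroup;
* `dec` : `Ru l₁ = (Ru l₁ ⊓ St l₂) (Ru l₁ ⊓ Ru (-l₂))`; `exists_apt` : two points lie in an apartment.
-/

set_option autoImplicit false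
set_option maxRecDepth 100000
set_option linter.unusedVariables false

namespace Cfsg.Agent.Cam.E8K

open CoxeterSystem Cfsg Cfsg.Lie Matrix
open Cfsg.Agent.ChevalleyStructure Cfsg.Agent.ChevalleyStructure.Elts Cfsg.Agent.ChevalleyStructure.CoxeterGeom
  Cfsg.Agent.ChevalleyStructure.CoxeterGeomTypes
open Cfsg.Agent.Tits.Roots Cfsg.Agent.Nodes.Reps Cfsg.Agent.Nodes.BNOf Cfsg.Agent.Nodes.RGDChev
  Cfsg.Agent.Nodes.NormalForm
open Cfsg.Agent.KFacts.RgdChevCoord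
open Cfsg.Agent.H942.E8Tab (e8T)
open Cfsg.Agent.H288.E8L (wt act8)
open Cfsg.Agent.E8A Cfsg.Agent.E8A.Par
open Cfsg.Agent.E8A.Kem (cw cw_apply nrm nrm_cw mk mk_apply mk_sr mk_eq Dm exists_dm Ge mem_Ge SP PL St sp_le_PL
  PL_le_St TT_le_PL Rad)

universe u

/-- real cocharacters -/
abbrev Co : Type := Q8 →+ ℝ

/-- matrices -/
abbrev Mat (K : Type u) : Type u := Matrix chevE8.Idx chevE8.Idx K

variable {K : Type u} [Field K] {l l' l₁ l₂ l₃ : Co} {x y : G8 K}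

/-! ### masks -/

open Classical in
/-- the block diagonal part of a matrix -/
noncomputable def msk (l l' : Co) (M : Mat K) : Mat K := fun i j => if l (wt j) = l' (wt i) then M i j else 0

theorem msk_of_eq {M : Mat K} {i j : chevE8.Idx} (h : l (wt j) = l' (wt i)) : msk l l' M i j = M i j := if_pos h

theorem msk_of_ne {M : Mat K} {i j : chevE8.Idx} (h : l (wt j) ≠ l' (wt i)) : msk l l' M i j = 0 := if_neg h

theorem msk_ne {M : Mat K} {i j : chevE8.Idx} (h : msk l l' M i j ≠ 0) : l (wt j) = l' (wt i) ∧ M i j ≠ 0 := by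
  by_cases e : l (wt j) = l' (wt i)
  · exact ⟨e, by rwa [msk_of_eq e] at h⟩
  · exact absurd (msk_of_ne e) h

theorem msk_eq_self {M : Mat K} (h : ∀ i j, M i j ≠ 0 → l (wt j) = l' (wt i)) : msk l l' M = M := by
  ext i j
  by_cases e : M i j = 0
  · by_contra h1
    rw [e] at h1
    exact (msk_ne h1).2 e
  · exact msk_of_eq (h i j e)

theorem msk_one : msk l l (1 : Mat K) = 1 := msk_eq_self fun i j h => by
  by_contra e
  exact h (Matrix.one_apply_ne fun e' => e (by rw [e']))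

theorem msk_mul {M N : Mat K} (hM : Up l₂ l₃ M) (hN : Up l₁ l₂ N) : msk l₁ l₃ (M * N) = msk l₂ l₃ M * msk l₁ l₂ N := by
  ext i j
  rw [Matrix.mul_apply]
  by_cases e : l₁ (wt j) = l₃ (wt i)
  · rw [msk_of_eq e, Matrix.mul_apply]
    refine Finset.sum_congr rfl fun k _ => ?_
    by_cases h1 : M i k = 0
    · rw [h1, zero_mul, show msk l₂ l₃ M i k = 0 by by_contra h; exact (msk_ne h).2 h1, zero_mul]
    by_cases h2 : N k j = 0
    · rw [h2, mul_zero, show msk l₁ l₂ N k j = 0 by by_contra h; exact (msk_ne h).2 h2, mul_zero]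
    have h3 := hM i k h1
    have h4 := hN k j h2
    rw [msk_of_eq (by linarith), msk_of_eq (by linarith)]
  · rw [msk_of_ne e]
    refine (Finset.sum_eq_zero fun k _ => ?_).symm
    by_contra h
    exact e ((msk_ne (right_ne_zero_of_mul h)).1.trans (msk_ne (left_ne_zero_of_mul h)).1)

theorem msk_sub (M N : Mat K) : msk l l' (M - N) = msk l l' M - msk l l' N := by
  ext i j
  by_cases e : l (wt j) = l' (wt i)
  · rw [Matrix.sub_apply, msk_of_eq e, msk_of_eq e, msk_of_eq e, Matrix.sub_apply]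
  · rw [Matrix.sub_apply, msk_of_ne e, msk_of_ne e, msk_of_ne e, sub_zero]

theorem msk_comm (M : Mat K) : msk l₁ l₁ (msk l₂ l₂ M) = msk l₂ l₂ (msk l₁ l₁ M) := by
  ext i j
  unfold msk
  split_ifs <;> rfl

theorem Up.msk {M : Mat K} (h : Up l₁ l₂ M) : Up l₁ l₂ (msk l l' M) := fun i j hij => h i j (msk_ne hij).2

/-! ### elements which respect filtrations and gradings -/

/-- `x` carries the filtration of `l` to the filtration of `l'` -/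
def Tr (l l' : Co) (x : G8 K) : Prop := Up l l' (mx x) ∧ Up l' l (mx x⁻¹)

/-- `x` carries the grading of `l` to the grading of `l'` -/
def Bl (l l' : Co) (x : G8 K) : Prop := Tr l l' x ∧ Tr (-l) (-l') x

theorem Tr.mul (hx : Tr l₂ l₃ x) (hy : Tr l₁ l₂ y) : Tr l₁ l₃ (x * y) :=
  ⟨hx.1.mul hy.1, by rw [_root_.mul_inv_rev]; exact hy.2.mul hx.2⟩

theorem Tr.inv (hx : Tr l l' x) : Tr l' l x⁻¹ := ⟨hx.2, by rw [inv_inv]; exact hx.1⟩

theorem tr_iff : Tr l l x ↔ x ∈ St K l := ⟨fun h => mem_St h.1 h.2, fun h => ⟨up_of_St h, up_of_St (inv_mem h)⟩⟩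

theorem Tr.st (h : Tr l l x) : x ∈ St K l := tr_iff.1 h

theorem tr_of (h : x ∈ St K l) : Tr l l x := tr_iff.2 h

theorem Tr.conj (hx : Tr l l' x) (hy : y ∈ St K l) : x * y * x⁻¹ ∈ St K l' := ((hx.mul (tr_of hy)).mul hx.inv).st

theorem Bl.mul (hx : Bl l₂ l₃ x) (hy : Bl l₁ l₂ y) : Bl l₁ l₃ (x * y) := ⟨hx.1.mul hy.1, hx.2.mul hy.2⟩

theorem Bl.inv (hx : Bl l l' x) : Bl l' l x⁻¹ := ⟨hx.1.inv, hx.2.inv⟩

theorem Bl.neg (hx : Bl l l' x) : Bl (-l) (-l') x := ⟨hx.2, by rw [neg_neg, neg_neg]; exact hx.1⟩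

theorem Bl.eq (hx : Bl l l' x) {i j : chevE8.Idx} (h : mx x i j ≠ 0) : l (wt j) = l' (wt i) :=
  le_antisymm (hx.1.1 i j h) (neg_le_neg_iff.1 (hx.2.1 i j h))

theorem bl_of (h : ∀ i j, mx x i j ≠ 0 → l (wt j) = l' (wt i)) (h' : ∀ i j, mx x⁻¹ i j ≠ 0 → l' (wt j) = l (wt i)) :
    Bl l l' x :=
  ⟨⟨fun i j e => (h i j e).le, fun i j e => (h' i j e).le⟩,
    fun i j e => neg_le_neg (h i j e).ge, fun i j e => neg_le_neg (h' i j e).ge⟩

theorem cw_neg (l : Co) (w : W8) : cw (-l) w = -cw l w := rfl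

theorem cw_one (l : Co) : cw l 1 = l := AddMonoidHom.ext fun a => by rw [cw_apply, act8_one]

theorem cw_mul (l : Co) (v w : W8) : cw l (v * w) = cw (cw l v) w :=
  AddMonoidHom.ext fun a => by rw [cw_apply, cw_apply, cw_apply, act8_mul]

theorem cw_inv (l : Co) (w : W8) : cw (cw l w) w⁻¹ = l := by rw [← cw_mul, mul_inv_cancel, cw_one]

theorem cw_inv' (l : Co) (w : W8) : cw (cw l w⁻¹) w = l := by rw [← cw_mul, inv_mul_cancel, cw_one]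

theorem bl_rep {w : W8} {n : G8 K} (hn : RepK w n) (l : Co) : Bl (cw l w) l n :=
  ⟨⟨up_rep hn, up_rep_inv hn⟩, up_rep (lam := -l) hn, up_rep_inv (lam := -l) hn⟩

variable (K) in
/-- the Levi subgroup -/
def Lev (l : Co) : Subgroup (G8 K) := St K l ⊓ St K (-l)

theorem bl_iff : Bl l l x ↔ x ∈ Lev K l := and_congr tr_iff tr_iff

theorem Bl.lev (h : Bl l l x) : x ∈ Lev K l := bl_iff.1 h

theorem bl_lev (h : x ∈ Lev K l) : Bl l l x := bl_iff.2 h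

theorem Lev_neg (l : Co) : Lev K (-l) = Lev K l := by rw [Lev, Lev, neg_neg, inf_comm]

theorem TT_le_Lev (l : Co) : TT chevE8 K ≤ Lev K l :=
  le_inf ((TT_le_PL l).trans (PL_le_St l)) ((TT_le_PL _).trans (PL_le_St _))

theorem xr_mem_St {r : Fin chevE8.nroots} (h : 0 ≤ l (vec chevE8 8 r)) (t : K) : xr r t ∈ St K l :=
  PL_le_St l (sp_le_PL l (xr_mem_Sup (S := SP l) ⟨H288.E8L.rt_vec r, h⟩ t))

theorem sup_le_St {S : Set Q8} (h : ∀ a ∈ S, Rt a ∧ 0 ≤ l a) : RGD.Sup (XX chevE8 8 K) S ≤ St K l :=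
  (RGD.Sup_mono (S' := SP l) h).trans ((sp_le_PL l).trans (PL_le_St l))

theorem U_le_St (h : Dm l) : U8 K ≤ St K l := sup_le_St fun _ ha => ⟨ha.1, h.nonneg ha.2⟩

theorem ext_rt (h : ∀ a, Rt a → l a ≤ l' a) : l = l' := by
  refine Cfsg.Agent.E8A.Frm.hom_ext fun i => le_antisymm (h _ (isRoot_sr cs8 e8T.isCartan i)) ?_
  have h2 := h _ (isRoot_sr cs8 e8T.isCartan i).neg
  rw [map_neg, map_neg] at h2
  linarith

theorem ext_wt (h : ∀ j, l (wt j) ≤ l' (wt j)) : l = l' := ext_rt fun a ha => by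
  obtain ⟨r, rfl⟩ := H288.E8L.exists_idx ha
  exact h (Sum.inr r)

theorem cw_eq_of_up' {w : W8} {n : G8 K} (hn : RepK w n) (h : Up l l' (mx n)) : l = cw l' w := by
  refine ext_rt fun a ha => ?_
  obtain ⟨r, rfl⟩ := H288.E8L.exists_idx ha
  obtain ⟨s, hs⟩ := H288.E8L.exists_idx ((H288.E8L.rt_vec r).act w)
  obtain ⟨c, hc, e⟩ := RepK.ee hn hs
  have h2 : mx n (Sum.inr s) (Sum.inr r) ≠ 0 := by
    rw [← act_ee, e, Pi.smul_apply, ee_self, smul_eq_mul, mul_one]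
    exact hc
  have h3 := h _ _ h2
  rw [H288.E8L.wt_inr, H288.E8L.wt_inr, hs] at h3
  exact h3

theorem exists_rep (w : W8) : ∃ n : G8 K, RepK w n := exists_rp cs8 (nsysK K) w

/-- **two points lie in one apartment** -/
theorem exists_apt (l₁ l₂ : Co) (x : G8 K) : ∃ z ∈ St K l₁, ∃ w, Tr l₂ (cw l₂ w) (z * x) := by
  obtain ⟨w₁, h₁⟩ := exists_dm l₁
  obtain ⟨w₂, h₂⟩ := exists_dm l₂
  obtain ⟨n₁, hn₁⟩ := exists_rep (K := K) w₁
  obtain ⟨n₂, hn₂⟩ := exists_rep (K := K) w₂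
  obtain ⟨u, hu, w, n, hn, u', hu', e⟩ := bruhat (n₁⁻¹ * x * n₂)
  refine ⟨n₁ * u⁻¹ * n₁⁻¹, (bl_rep hn₁ l₁).1.conj (inv_mem (U_le_St h₁ hu)), w₂ * (w₁ * w)⁻¹, ?_⟩
  have h3 : n₁ * u⁻¹ * n₁⁻¹ * x = n₁ * n * (u' * n₂⁻¹) := by
    rw [show x = n₁ * (n₁⁻¹ * x * n₂) * n₂⁻¹ by group, e]
    group
  have h4 := (bl_rep (hn₁.mul hn) (cw (cw l₂ w₂) (w₁ * w)⁻¹)).1
  rw [cw_inv'] at h4
  rw [h3, cw_mul]
  exact h4.mul ((tr_of (sup_le_St (fun _ ha => ⟨ha.1, h₂.nonneg ha.2.1⟩) hu')).mul (bl_rep hn₂ l₂).1.inv)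

theorem Tr.exists_rep (h : Tr l l' x) : ∃ w, l = cw l' w := by
  obtain ⟨w₁, h₁⟩ := exists_dm l
  obtain ⟨w₂, h₂⟩ := exists_dm l'
  obtain ⟨n₁, hn₁⟩ := E8K.exists_rep (K := K) w₁
  obtain ⟨n₂, hn₂⟩ := E8K.exists_rep (K := K) w₂
  obtain ⟨u, hu, w, n, hn, u', hu', e⟩ := bruhat (n₂⁻¹ * x * n₁)
  have h3 := ((tr_of (inv_mem (U_le_St h₂ hu))).mul (((bl_rep hn₂ l').1.inv.mul h).mul (bl_rep hn₁ l).1)).mul
    (tr_of (inv_mem (sup_le_St (fun _ ha => ⟨ha.1, h₁.nonneg ha.2.1⟩) hu')))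
  rw [e, show u⁻¹ * (u * n * u') * u'⁻¹ = n by group] at h3
  exact ⟨w₂ * w * w₁⁻¹, by rw [cw_mul, cw_mul, ← cw_eq_of_up' hn h3.1, cw_inv]⟩

theorem Tr.nrm_eq (h : Tr l l' x) : nrm l = nrm l' := by
  obtain ⟨w, rfl⟩ := h.exists_rep
  exact nrm_cw _ _

/-! ### the Levi part -/

variable (K) in
/-- the Levi subgroup, by generators -/
def L0 (l : Co) : Subgroup (G8 K) := RGD.Sup (XX chevE8 8 K) {a | Rt a ∧ l a = 0} ⊔ TT chevE8 K

theorem L0_le_Lev (h : ∀ a, Rt a → l a = 0 → l' a = 0) : L0 K l ≤ Lev K l' :=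
  sup_le (le_inf (sup_le_St fun a ha => ⟨ha.1, (h a ha.1 ha.2).ge⟩)
    (sup_le_St fun a ha => ⟨ha.1, by rw [AddMonoidHom.neg_apply, h a ha.1 ha.2, neg_zero]⟩)) (TT_le_Lev l')

theorem msk_bl (h : Bl l l' x) : msk l l' (mx x) = mx x := msk_eq_self fun _ _ => h.eq

theorem exists_cl0 (hd : Dm l) (hy : y ∈ St K l) : ∃ c ∈ L0 K l, mx c = msk l l (mx y) := by
  let P : Subgroup (G8 K) :=
    { carrier := {y | y ∈ St K l ∧ ∃ c ∈ L0 K l, mx c = msk l l (mx y)}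
      one_mem' := ⟨one_mem _, 1, one_mem _, msk_one.symm⟩
      mul_mem' := by
        rintro a b ⟨ha, c, hc, e⟩ ⟨hb, c', hc', e'⟩
        exact ⟨mul_mem ha hb, c * c', mul_mem hc hc', by rw [mx_mul, mx_mul, msk_mul (up_of_St ha) (up_of_St hb), e, e']⟩
      inv_mem' := by
        rintro a ⟨ha, c, hc, e⟩
        refine ⟨inv_mem ha, c⁻¹, inv_mem hc, ?_⟩
        have h1 := msk_mul (up_of_St ha) (up_of_St (inv_mem ha))
        rw [mx_mul_inv, msk_one, ← e] at h1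
        rw [← Matrix.mul_one (mx c⁻¹), h1, ← Matrix.mul_assoc, mx_inv_mul, Matrix.one_mul] }
  have h0 : L0 K l ≤ P := fun c hc =>
    ⟨(L0_le_Lev (fun _ _ h => h) hc).1, c, hc, (msk_bl (bl_lev (L0_le_Lev (fun _ _ h => h) hc))).symm⟩
  have h1 : RGD.Sup (XX chevE8 8 K) (SP l) ≤ P := by
    refine sup_le_of (fun _ ha => ha.1) fun r hr t => ?_
    rcases (show 0 ≤ l (vec chevE8 8 r) from hr.2).eq_or_lt with e | e
    · exact h0 (Subgroup.mem_sup_left (xr_mem_Sup (S := {a | Rt a ∧ l a = 0}) ⟨hr.1, e.symm⟩ t))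
    · refine ⟨xr_mem_St e.le t, 1, one_mem _, ?_⟩
      rw [← sub_eq_zero, mx_one, ← msk_one (l := l), ← msk_sub]
      ext i j
      by_contra h
      obtain ⟨h2, h3⟩ := msk_ne h
      rw [← neg_sub, Matrix.neg_apply, neg_ne_zero] at h3
      obtain ⟨m, hm, h4⟩ := xr_sub_entry r t h3
      rw [h4, map_add, map_zsmul, zsmul_eq_mul] at h2
      have h5 : (0 : ℝ) < ((m : ℤ) : ℝ) := by exact_mod_cast hm
      nlinarith
  obtain ⟨m, hm, t, ht, rfl⟩ := St_le_PL hd hy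
  exact (mul_mem (h1 hm) (h0 (Subgroup.mem_sup_right ht))).2

theorem conj_L0 {w : W8} {n c : G8 K} (hn : RepK w n) (hc : c ∈ L0 K (cw l w)) : n * c * n⁻¹ ∈ L0 K l := by
  have h1 : L0 K (cw l w) ≤ (L0 K l).comap (MulAut.conj n).toMonoidHom := by
    refine sup_le (fun a ha => Subgroup.mem_sup_left ?_) fun t ht => Subgroup.mem_sup_right ?_
    · exact RepK.conj_Sup hn (S := {a | Rt a ∧ cw l w a = 0}) (S' := {a | Rt a ∧ l a = 0}) (fun _ ha => ha.1) (fun a ha => ⟨ha.1.act w, ha.2⟩) ha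
    · have h2 := (hn.mul (rp_of_mem ht)).mul hn.inv
      rw [mul_one, mul_inv_cancel] at h2
      exact h2.mem_of_one
  exact h1 hc

theorem exists_cl1 (hy : y ∈ St K l) : ∃ c ∈ L0 K l, mx c = msk l l (mx y) := by
  obtain ⟨w, hw⟩ := exists_dm l
  obtain ⟨n, hn⟩ := exists_rep (K := K) w
  have hb := bl_rep hn l
  obtain ⟨c, hc, e⟩ := exists_cl0 hw (St_conj hn hy)
  refine ⟨_, conj_L0 hn hc, ?_⟩
  have h1 := msk_mul (hb.1.1.mul (up_of_St (St_conj hn hy))) hb.1.2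
  rw [msk_mul hb.1.1 (up_of_St (St_conj hn hy)), msk_bl hb, msk_bl hb.inv, ← e, ← mx_mul, ← mx_mul, ← mx_mul, ← mx_mul,
    show n * (n⁻¹ * y * n) * n⁻¹ = y by group] at h1
  exact h1.symm

theorem Lev_le_L0 (l : Co) : Lev K l ≤ L0 K l := fun y hy => by
  obtain ⟨c, hc, e⟩ := exists_cl1 hy.1
  rw [msk_bl (bl_lev hy)] at e
  exact mx_injective e ▸ hc

theorem Lev_mono (h : ∀ a, Rt a → l a = 0 → l' a = 0) : Lev K l ≤ Lev K l' := (Lev_le_L0 l).trans (L0_le_Lev h)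

theorem Tr.exists_cl (h : Tr l l' x) : ∃ c : G8 K, mx c = msk l l' (mx x) := by
  obtain ⟨w, rfl⟩ := h.exists_rep
  obtain ⟨n, hn⟩ := E8K.exists_rep (K := K) w
  have hb := bl_rep hn l'
  have h1 := h.mul hb.1.inv
  obtain ⟨c, -, e⟩ := exists_cl1 h1.st
  exact ⟨c * n, by rw [show x = x * n⁻¹ * n by group, mx_mul c, mx_mul _ n, msk_mul h1.1 hb.1.1, msk_bl hb, e]⟩

open Classical in
/-- the block diagonal part -/
noncomputable def cl (l l' : Co) (x : G8 K) : G8 K := if h : ∃ c : G8 K, mx c = msk l l' (mx x) then h.choose else 1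

theorem mx_cl (h : Tr l l' x) : mx (cl l l' x) = msk l l' (mx x) := by
  unfold cl
  rw [dif_pos h.exists_cl]
  exact h.exists_cl.choose_spec

theorem cl_mul (hx : Tr l₂ l₃ x) (hy : Tr l₁ l₂ y) : cl l₁ l₃ (x * y) = cl l₂ l₃ x * cl l₁ l₂ y :=
  mx_injective (by rw [mx_mul, mx_cl (hx.mul hy), mx_cl hx, mx_cl hy, mx_mul, msk_mul hx.1 hy.1])

theorem cl_bl (h : Bl l l' x) : cl l l' x = x := mx_injective (by rw [mx_cl h.1, msk_bl h])

theorem cl_lev (h : x ∈ Lev K l) : cl l l x = x := cl_bl (bl_lev h)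

theorem cl_one : cl l l (1 : G8 K) = 1 := cl_lev (one_mem _)

theorem cl_inv (h : Tr l l' x) : cl l' l x⁻¹ = (cl l l' x)⁻¹ := by
  rw [eq_inv_iff_mul_eq_one, ← cl_mul h.inv h, inv_mul_cancel, cl_one]

theorem cl_ne (h : Tr l l' x) {i j : chevE8.Idx} (hij : mx (cl l l' x) i j ≠ 0) : l (wt j) = l' (wt i) ∧ mx x i j ≠ 0 :=
  msk_ne (mx_cl h ▸ hij)

theorem bl_cl (h : Tr l l' x) : Bl l l' (cl l l' x) :=
  bl_of (fun _ _ e => (cl_ne h e).1) fun _ _ e => (cl_ne h.inv (by rwa [cl_inv h])).1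

theorem cl_mem (h : x ∈ St K l) : cl l l x ∈ Lev K l := (bl_cl (tr_of h)).lev

theorem Tr.cl (h : Tr l l' x) (h' : Tr l₁ l₂ x) : Tr l₁ l₂ (cl l l' x) :=
  ⟨fun i j e => h'.1 i j (cl_ne h e).2, fun i j e => h'.2 i j (cl_ne h.inv (by rwa [cl_inv h])).2⟩

theorem cl_St (h : x ∈ St K l) (h' : x ∈ St K l') : cl l l x ∈ St K l' := ((tr_of h).cl (tr_of h')).st

theorem cl_conj (hx : Bl l l' x) (hy : y ∈ St K l) : cl l' l' (x * y * x⁻¹) = x * cl l l y * x⁻¹ := by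
  rw [cl_mul (hx.1.mul (tr_of hy)) hx.1.inv, cl_mul hx.1 (tr_of hy), cl_bl hx, cl_bl hx.inv]

/-! ### the unipotent radical -/

variable (K) in
/-- the unipotent radical -/
def Ru (l : Co) : Subgroup (G8 K) where
  carrier := {u | u ∈ St K l ∧ cl l l u = 1}
  one_mem' := ⟨one_mem _, cl_one⟩
  mul_mem' := fun {a b} ha hb => ⟨mul_mem ha.1 hb.1, by rw [cl_mul (tr_of ha.1) (tr_of hb.1), ha.2, hb.2, one_mul]⟩
  inv_mem' := fun {a} ha => ⟨inv_mem ha.1, by rw [cl_inv (tr_of ha.1), ha.2, inv_one]⟩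

theorem mem_Ru : x ∈ Ru K l ↔ x ∈ St K l ∧ ∀ i j, (mx x - 1) i j ≠ 0 → l (wt j) < l (wt i) := by
  refine and_congr_right fun hx => ⟨fun h i j hij => ?_, fun h => mx_injective ?_⟩
  · have h1 : msk l l (mx x - 1) = 0 := by rw [msk_sub, msk_one, ← mx_cl (tr_of hx), h, mx_one, sub_self]
    have h2 : l (wt j) ≠ l (wt i) := fun e => hij ((msk_of_eq e).symm.trans (by rw [h1]; rfl))
    refine lt_of_le_of_ne (up_of_St hx i j fun e => hij ?_) h2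
    rw [Matrix.sub_apply, e, Matrix.one_apply_ne fun e' => h2 (by rw [e']), sub_zero]
  · rw [mx_cl (tr_of hx), mx_one, ← sub_eq_zero, ← msk_one (l := l), ← msk_sub]
    ext i j
    by_contra h1
    exact (h i j (msk_ne h1).2).ne (msk_ne h1).1

theorem Tr.conj_Ru (hx : Tr l l' x) (hy : y ∈ Ru K l) : x * y * x⁻¹ ∈ Ru K l' :=
  ⟨hx.conj hy.1, by
    rw [cl_mul (hx.mul (tr_of hy.1)) hx.inv, cl_mul hx (tr_of hy.1), hy.2, mul_one, cl_inv hx, mul_inv_cancel]⟩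

theorem Tr.mul_cl (h : Tr l l' x) : x * (E8K.cl l l' x)⁻¹ ∈ Ru K l' :=
  ⟨(h.mul (bl_cl h).1.inv).st, by rw [cl_mul h (bl_cl h).1.inv, cl_bl (bl_cl h).inv, mul_inv_cancel]⟩

theorem Tr.cl_mul' (h : Tr l l' x) : (E8K.cl l l' x)⁻¹ * x ∈ Ru K l :=
  ⟨((bl_cl h).1.inv.mul h).st, by rw [cl_mul (bl_cl h).1.inv h, cl_bl (bl_cl h).inv, inv_mul_cancel]⟩

theorem eq_one_of_Ru (h : x ∈ Ru K l) (h' : x ∈ St K (-l)) : x = 1 := by rw [← cl_lev ⟨h.1, h'⟩, h.2]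

theorem eq_one_of_Ru' (h : x ∈ Ru K (-l)) (h' : x ∈ St K l) : x = 1 := eq_one_of_Ru h (by rwa [neg_neg])

theorem cl_sub (h : x ∈ St K l) {i j : chevE8.Idx} (hij : (mx (cl l l x) - 1) i j ≠ 0) :
    l (wt j) = l (wt i) ∧ (mx x - 1) i j ≠ 0 := by
  rw [mx_cl (tr_of h), ← msk_one (l := l), ← msk_sub] at hij
  exact msk_ne hij

theorem cl_Ru (h : x ∈ St K l) (h' : x ∈ Ru K l') : cl l l x ∈ Ru K l' :=
  mem_Ru.2 ⟨cl_St h h'.1, fun i j e => (mem_Ru.1 h').2 i j (cl_sub h e).2⟩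

theorem sup_le_Ru {S : Set Q8} (h : ∀ a ∈ S, Rt a ∧ 0 < l a) : RGD.Sup (XX chevE8 8 K) S ≤ Ru K l := by
  refine sup_le_of (fun a ha => (h a ha).1) fun r hr t => mem_Ru.2 ⟨xr_mem_St (h _ hr).2.le t, fun i j hij => ?_⟩
  obtain ⟨m, hm, e⟩ := xr_sub_entry r t hij
  rw [e, map_add, map_zsmul, zsmul_eq_mul]
  have h5 : (0 : ℝ) < ((m : ℤ) : ℝ) := by exact_mod_cast hm
  nlinarith [(h _ hr).2]

/-- a regular dominant cocharacter -/
noncomputable def rho1 : Co := mk fun _ => 1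

theorem U_le_Ru : U8 K ≤ Ru K rho1 := sup_le_Ru fun a ha => ⟨ha.1, by
  obtain ⟨i, hi⟩ := Function.ne_iff.1 ha.1.ne_zero
  rw [rho1, mk_apply]
  refine Finset.sum_pos' (fun j _ => mul_nonneg (Int.cast_nonneg_iff.2 (ha.2 j)) zero_le_one) ⟨i, Finset.mem_univ i, ?_⟩
  rw [mul_one]
  exact Int.cast_pos.2 (lt_of_le_of_ne (ha.2 i) (Ne.symm hi))⟩

theorem diag_Ru (h : x ∈ Ru K l) (j : chevE8.Idx) : mx x j j = 1 := by
  by_contra e
  exact lt_irrefl _ ((mem_Ru.1 h).2 j j (by rwa [Matrix.sub_apply, Matrix.one_apply_eq, sub_ne_zero]))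

theorem dec0 (hd : Dm l₁) (l₂ : Co) (hx : x ∈ Ru K l₁) :
    ∃ a ∈ Ru K l₁, ∃ b ∈ Ru K l₁, a ∈ St K l₂ ∧ b ∈ Ru K (-l₂) ∧ x = a * b := by
  obtain ⟨w, hw⟩ := exists_dm l₂
  obtain ⟨n, hn⟩ := exists_rep (K := K) w
  obtain ⟨u, hu, w', n', hn', u', hu', e⟩ := bruhat (n⁻¹ * x)
  have hU : u' ∈ U8 K := RGD.Sup_mono (S' := Pos8) (fun _ ha => ⟨ha.1, ha.2.1⟩) hu'
  have h1 : u' ∈ St K l₁ := U_le_St hd hU
  have h2 : Tr (cw (cw l₂ w) w') l₂ (x * u'⁻¹) := by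
    rw [show x * u'⁻¹ = n * (u * n') by rw [show x = n * (n⁻¹ * x) by group, e]; group]
    exact (bl_rep hn l₂).1.mul ((tr_of (U_le_St hw hu)).mul (bl_rep hn' _).1)
  have h3 : x * u'⁻¹ ∈ St K l₁ := mul_mem hx.1 (inv_mem h1)
  have h4 : cw (cw l₂ w) w' = l₂ := ext_wt fun j => h2.1 j j (by
    have h5 : cl l₁ l₁ (x * u'⁻¹) ∈ Ru K rho1 := by
      rw [cl_mul (tr_of hx.1) (tr_of (inv_mem h1)), hx.2, one_mul]
      exact cl_Ru (inv_mem h1) (inv_mem (U_le_Ru hU))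
    exact (cl_ne (tr_of h3) (by rw [diag_Ru h5]; exact one_ne_zero)).2)
  have h5 : u' ∈ St K (-l₂) := sup_le_St (fun a ha => ⟨ha.1, by
    rw [← h4, AddMonoidHom.neg_apply, cw_apply, neg_nonneg]
    exact hw.nonpos ha.2.2⟩) hu'
  rw [h4] at h2
  have h6 := cl_mem h5
  rw [Lev_neg] at h6
  have h7 := (tr_of h5).cl_mul'
  have h8 := cl_St h5 h1
  generalize cl (-l₂) (-l₂) u' = c at h6 h7 h8
  have ha : x * u'⁻¹ * c ∈ St K l₁ := mul_mem h3 h8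
  have hb : c⁻¹ * u' ∈ St K l₁ := mul_mem (inv_mem h8) h1
  have ha' : x * u'⁻¹ * c ∈ St K l₂ := mul_mem h2.st h6.1
  have h9 := cl_mul (tr_of ha) (tr_of hb)
  rw [show x * u'⁻¹ * c * (c⁻¹ * u') = x by group, hx.2] at h9
  have h10 : cl l₁ l₁ (c⁻¹ * u') = 1 :=
    eq_one_of_Ru' (cl_Ru hb h7) (by rw [← inv_eq_of_mul_eq_one_right h9.symm]; exact inv_mem (cl_St ha ha'))
  rw [h10, mul_one] at h9
  exact ⟨_, ⟨ha, h9.symm⟩, _, ⟨hb, h10⟩, ha', h7, by group⟩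

/-- **decomposition of the unipotent radical** -/
theorem dec (l₂ : Co) (hx : x ∈ Ru K l₁) : ∃ a ∈ Ru K l₁, ∃ b ∈ Ru K l₁, a ∈ St K l₂ ∧ b ∈ Ru K (-l₂) ∧ x = a * b := by
  obtain ⟨w, hw⟩ := exists_dm l₁
  obtain ⟨n, hn⟩ := exists_rep (K := K) w
  have h1 := (bl_rep hn l₁).1.inv.conj_Ru hx
  obtain ⟨a, ha, b, hb, ha', hb', e⟩ := dec0 hw (cw l₂ w) h1
  refine ⟨_, (bl_rep hn l₁).1.conj_Ru ha, _, (bl_rep hn l₁).1.conj_Ru hb, (bl_rep hn l₂).1.conj ha',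
    (bl_rep hn (-l₂)).1.conj_Ru hb', ?_⟩
  rw [conj_mul, ← e]
  group

end Cfsg.Agent.Cam.E8K
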