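import Cfsg.Agent.Cam.E8K.F
import Cfsg.Agent.Cam.E8.OIface

/-!
# `E₈`: the box ML of the odd interface (helper65)
-/

set_option autoImplicit false

namespace Cfsg.Agent.Cam.E8K

/-- **BoxML** -/
theorem boxML : E8O.BoxML := fun _ _ _ p _ _ hp _ _ _ _ _ _ _ _ c h =>
  ml8 p ((le_of_lt hp).trans (le_card p)) (Or.inr h) c

end Cfsg.Agent.Cam.E8K
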