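import Cfsg.Agent.Cam.E8K.F
import Cfsg.Agent.S0205

/-!
# `E₈`: characteristic two reduces to the field with two elements (helper65)
-/

set_option autoImplicit false
set_option linter.unusedVariables false

namespace Cfsg.Agent.Cam.E8K

open Cfsg Cfsg.Lie Subgroup
open Cfsg.Agent.E8A Cfsg.Agent.Cam.Spor

theorem two_dvd_U {L U : Type} [Group L] [Group U] [Finite U] {τ α β : U →* L} {R R' : Subgroup L}
    (c : Core τ α β R R') : 2 ∣ Nat.card U := by
  by_contra h
  have h1 := Cfsg.Agent.S0205.result (G := U) (Nat.not_even_iff_odd.1 fun e => h (even_iff_two_dvd.1 e))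
  have := c.simple
  exact c.noncomm ⟨⟨IsSimpleGroup.comm_iff_isSolvable.2 h1⟩⟩

/-- a core in characteristic two forces `q = 2` -/
theorem card_eq_two {F : Type} [Field F] [Finite F] [CharP F 2] {U : Type} [Group U] [Finite U] {τ α β : U →* G8 F}
    {R R' : Subgroup (G8 F)} (c : Core τ α β R R') : Nat.card F = 2 := by
  by_contra h
  obtain ⟨n, hn, he⟩ := exists_card_eq 2 (F := F)
  refine ml_two ?_ c (two_dvd_U c)
  rcases n with _ | _ | n
  · exact absurd hn (lt_irrefl 0)
  · exact absurd he h
  · rw [he, pow_succ, pow_succ]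
    have := Nat.one_le_two_pow (n := n)
    omega

/-- **BoxTwo** from the field with two elements -/
theorem boxTwo_of (h : E8.BoxQ 2) : E8.BoxTwo := fun F _ _ _ U _ _ τ α β R R' c =>
  E8.Crk.noCore_of h F (card_eq_two c) c

end Cfsg.Agent.Cam.E8K
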