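import Cfsg.Agent.Cam.E8K.A
import Cfsg.Agent.Cam.E8.Iface
import Cfsg.Agent.H460.IFO.Fac

/-!
# `E₈`: supports, perturbation, apartments of completely reducible groups (helper65)

* `Sp x` : the support; `mem_St'`, `mem_Lev`, `mem_Ru'`, `mem_Rad` : sign conditions on the support; `Sp_cl`;
* `Ru_eq`, `Lv_eq`, `pt_iff` : the bridge to `Cam/E8/Iface.lean`;
* `exists_eps` : the cocharacter `l₁ + ε l₂`; `apt`, `boxApt`;
* `aut8` : automorphisms of the finite group preserve supports up to conjugation.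
-/

set_option autoImplicit false
set_option maxRecDepth 100000
set_option linter.unusedVariables false

namespace Cfsg.Agent.Cam.E8K

open CoxeterSystem Cfsg Cfsg.Lie Matrix
open Cfsg.Agent.H288.E8L (wt act8)
open Cfsg.Agent.E8A Cfsg.Agent.E8A.Par
open Cfsg.Agent.E8A.Kem (cw cw_apply nrm nrm_cw mk mk_apply mk_sr mk_eq Dm exists_dm Ge mem_Ge SP PL St sp_le_PL
  PL_le_St TT_le_PL Rad)
open Cfsg.Agent.Cam.E8 (In CR Pt Lv)

universe u

section gen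

variable {K : Type u} [Field K] {l l' l₁ l₂ l₃ : Co} {x y : G8 K}

theorem St_of_up (h : Up l l (mx x)) : x ∈ St K l := by
  refine mem_St h (up_of_LS fun c w hw => ?_)
  let f : ↥(LS K (Ge l c)) →ₗ[K] ↥(LS K (Ge l c)) := (LK K x).restrict fun v hv => h.LS c hv
  have hf : Function.Injective f := fun a b hab => Subtype.ext (act_injective x (congrArg Subtype.val hab))
  obtain ⟨v, hv⟩ := (LinearMap.injective_iff_surjective.1 hf) ⟨w, hw⟩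
  have h2 : act x (v : L8 K) = w := congrArg Subtype.val hv
  rw [← h2, act_inv]
  exact v.2

/-- the weight differences -/
def WD : Set Q8 := Set.range fun e : chevE8.Idx × chevE8.Idx => wt e.1 - wt e.2

theorem WD_finite : WD.Finite := Set.finite_range _

theorem WD_neg {a : Q8} (h : a ∈ WD) : -a ∈ WD := by
  obtain ⟨e, rfl⟩ := h
  exact ⟨(e.2, e.1), (neg_sub _ _).symm⟩

/-- the support -/
def Sp (x : G8 K) : Set Q8 := {a | ∃ i j, (mx x - 1) i j ≠ 0 ∧ a = wt i - wt j}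

theorem Sp_sub (x : G8 K) : Sp x ⊆ WD := by
  rintro _ ⟨i, j, -, rfl⟩
  exact ⟨(i, j), rfl⟩

theorem Sp_finite (x : G8 K) : (Sp x).Finite := WD_finite.subset (Sp_sub x)

theorem forall_Sp {P : Q8 → Prop} : (∀ a ∈ Sp x, P a) ↔ ∀ i j, (mx x - 1) i j ≠ 0 → P (wt i - wt j) :=
  ⟨fun h i j e => h _ ⟨i, j, e, rfl⟩, by rintro h _ ⟨i, j, e, rfl⟩; exact h i j e⟩

theorem eq_one_of_Sp (h : ∀ a, a ∉ Sp x) : x = 1 := mx_injective (by
  rw [mx_one, ← sub_eq_zero]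
  ext i j
  by_contra e
  exact h _ ⟨i, j, e, rfl⟩)

theorem exists_Sp (h : x ≠ 1) : ∃ a, a ∈ Sp x := by
  by_contra e
  exact h (eq_one_of_Sp fun a ha => e ⟨a, ha⟩)

theorem sub_one_ne {M : Mat K} {i j : chevE8.Idx} (h : i ≠ j) : (M - 1) i j = M i j := by
  rw [Matrix.sub_apply, Matrix.one_apply_ne h, sub_zero]

theorem mem_St' : x ∈ St K l ↔ ∀ a ∈ Sp x, 0 ≤ l a := by
  rw [forall_Sp]
  refine ⟨fun h i j e => ?_, fun h => St_of_up fun i j e => ?_⟩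
  · by_cases e' : i = j
    · rw [e', sub_self, map_zero]
    · rw [map_sub, sub_nonneg]
      exact up_of_St h i j (by rwa [sub_one_ne e'] at e)
  · by_cases e' : i = j
    · rw [e']
    · have h1 := h i j (by rwa [sub_one_ne e'])
      rwa [map_sub, sub_nonneg] at h1

theorem mem_Lev : x ∈ Lev K l ↔ ∀ a ∈ Sp x, l a = 0 := by
  rw [Lev, Subgroup.mem_inf, mem_St', mem_St']
  exact ⟨fun h a ha => le_antisymm (neg_nonneg.1 (h.2 a ha)) (h.1 a ha),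
    fun h => ⟨fun a ha => (h a ha).ge, fun a ha => neg_nonneg.2 (h a ha).le⟩⟩

theorem mem_Ru' : x ∈ Ru K l ↔ ∀ a ∈ Sp x, 0 < l a := by
  rw [mem_Ru, mem_St', forall_Sp, forall_Sp]
  simp only [map_sub, sub_pos, sub_nonneg]
  exact ⟨fun h => h.2, fun h => ⟨fun i j e => (h i j e).le, h⟩⟩

theorem mem_Rad : x ∈ Rad K l ↔ ∀ a ∈ Sp x, 1 ≤ l a := by
  refine ⟨fun h => forall_Sp.2 fun i j e => ?_, fun h => ⟨mem_St'.2 fun a ha => zero_le_one.trans (h a ha), fun c v hv => ?_⟩⟩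
  · have h1 := h.2 (l (wt j)) (ee K j) (ee_mem_LS (mem_Ge.2 le_rfl)) i (by rwa [act_sub_self, mulVec_ee])
    rw [mem_Ge] at h1
    rw [map_sub]
    linarith
  · rw [act_sub_self]
    refine mulVec_LS (fun i j hij hj => mem_Ge.2 ?_) hv
    have h1 := forall_Sp.1 h i j hij
    rw [map_sub] at h1
    have h2 := mem_Ge.1 hj
    linarith

theorem Rad_le_Ru (l : Co) : Rad K l ≤ Ru K l := fun _ h => mem_Ru'.2 fun a ha => zero_lt_one.trans_le (mem_Rad.1 h a ha)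

theorem Ru_le_St (l : Co) : Ru K l ≤ St K l := fun _ h => h.1

theorem Sp_cl (h : x ∈ St K l) {a : Q8} : a ∈ Sp (cl l l x) ↔ a ∈ Sp x ∧ l a = 0 := by
  constructor
  · rintro ⟨i, j, e, rfl⟩
    exact ⟨⟨i, j, (cl_sub h e).2, rfl⟩, by rw [map_sub, (cl_sub h e).1, sub_self]⟩
  · rintro ⟨⟨i, j, e, rfl⟩, h1⟩
    refine ⟨i, j, ?_, rfl⟩
    rw [map_sub, sub_eq_zero] at h1
    rwa [mx_cl (tr_of h), ← msk_one (l := l), ← msk_sub, msk_of_eq h1.symm]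

theorem cl_Rad (h : x ∈ St K l) (h' : x ∈ Rad K l') : cl l l x ∈ Rad K l' :=
  mem_Rad.2 fun a ha => mem_Rad.1 h' a ((Sp_cl h).1 ha).1

theorem cl_Lev (h : x ∈ St K l) (h' : x ∈ Lev K l') : cl l l x ∈ Lev K l' :=
  mem_Lev.2 fun a ha => mem_Lev.1 h' a ((Sp_cl h).1 ha).1

theorem Tr.conj_Rad (hx : Tr l l' x) (hy : y ∈ Rad K l) : x * y * x⁻¹ ∈ Rad K l' := by
  refine ⟨hx.conj hy.1, fun c v hv => ?_⟩
  have e : act (x * y * x⁻¹) v - v = act x (act y (act x⁻¹ v) - act x⁻¹ v) := by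
    rw [act_mul, act_mul, act_sub, act_inv']
  rw [e]
  exact hx.1.LS _ (hy.2 c _ (hx.2.LS c hv))

theorem Bl.conj (hx : Bl l l' x) (hy : y ∈ Lev K l) : x * y * x⁻¹ ∈ Lev K l' := ((hx.mul (bl_lev hy)).mul hx.inv).lev

theorem Tr.smul (hx : Tr l l' x) {c : ℝ} (hc : 0 ≤ c) : Tr (c • l) (c • l') x :=
  ⟨fun i j e => mul_le_mul_of_nonneg_left (hx.1 i j e) hc, fun i j e => mul_le_mul_of_nonneg_left (hx.2 i j e) hc⟩

theorem exists_scale (l : Co) : ∃ c : ℝ, 0 < c ∧ ∀ a ∈ WD, 0 < l a → 1 ≤ c * l a := by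
  obtain ⟨M, hM⟩ := (WD_finite.image fun a => (l a)⁻¹).bddAbove
  refine ⟨max M 1, lt_max_of_lt_right one_pos, fun a ha h1 => ?_⟩
  have h2 : (l a)⁻¹ ≤ max M 1 := (hM ⟨a, ha, rfl⟩).trans (le_max_left _ _)
  calc (1 : ℝ) = (l a)⁻¹ * l a := (inv_mul_cancel₀ h1.ne').symm
    _ ≤ _ := mul_le_mul_of_nonneg_right h2 h1.le

theorem Ru_le_Rad (l : Co) : ∃ c : ℝ, 0 < c ∧ Ru K l ≤ Rad K (c • l) := by
  obtain ⟨c, hc, h⟩ := exists_scale l
  exact ⟨c, hc, fun x hx => mem_Rad.2 fun a ha => h a (Sp_sub x ha) (mem_Ru'.1 hx a ha)⟩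

theorem Rad_smul_le {c : ℝ} (hc : 0 < c) : Rad K (c • l) ≤ Ru K l := fun x hx => mem_Ru'.2 fun a ha =>
  (mul_pos_iff_of_pos_left hc).1 (zero_lt_one.trans_le (mem_Rad.1 hx a ha))

theorem Ru_pow (p : ℕ) [Fact p.Prime] [CharP K p] (h : x ∈ Ru K l) : ∃ k : ℕ, x ^ p ^ k = 1 := by
  obtain ⟨c, -, h1⟩ := Ru_le_Rad (K := K) l
  exact Kem.Rad.pow p (h1 h)

theorem isPGroup_Ru (p : ℕ) [Fact p.Prime] [CharP K p] (l : Co) : IsPGroup p (Ru K l) := fun x => by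
  obtain ⟨k, hk⟩ := Ru_pow p x.2
  exact ⟨k, Subtype.ext hk⟩

theorem Ru_zero (h : x ∈ Ru K 0) : x = 1 := eq_one_of_Sp fun a ha => lt_irrefl _ (mem_Ru'.1 h a ha)

/-- a small perturbation -/
theorem exists_eps (l₁ l₂ : Co) : ∃ ε : ℝ, 0 < ε ∧ ∀ a ∈ WD, 0 < l₁ a → 0 < (l₁ + ε • l₂) a := by
  obtain ⟨c, hc, h⟩ := exists_scale l₁
  obtain ⟨M, hM⟩ := (WD_finite.image fun a => |l₂ a|).bddAbove
  have h0 : 0 < c * (|M| + 1) := by positivity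
  refine ⟨(c * (|M| + 1))⁻¹, inv_pos.2 h0, fun a ha h1 => ?_⟩
  have h2 := h a ha h1
  have h3 : |l₂ a| ≤ M := hM ⟨a, ha, rfl⟩
  have h4 := neg_abs_le (l₂ a)
  have h5 := le_abs_self M
  rw [AddMonoidHom.add_apply, AddMonoidHom.smul_apply, smul_eq_mul, ← mul_pos_iff_of_pos_left h0, mul_add, ← mul_assoc _ _⁻¹,
    mul_inv_cancel₀ h0.ne']
  nlinarith [abs_nonneg M]

section eps

variable {ε : ℝ} (h0 : 0 < ε) (hε : ∀ a ∈ WD, 0 < l₁ a → 0 < (l₁ + ε • l₂) a)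

include h0 in
theorem St_eps (h₁ : x ∈ St K l₁) (h₂ : x ∈ St K l₂) : x ∈ St K (l₁ + ε • l₂) := mem_St'.2 fun a ha =>
  add_nonneg (mem_St'.1 h₁ a ha) (mul_nonneg h0.le (mem_St'.1 h₂ a ha))

include hε in
theorem St_of_eps (h : x ∈ St K (l₁ + ε • l₂)) : x ∈ St K l₁ := mem_St'.2 fun a ha => by
  by_contra e
  have h1 := hε _ (WD_neg (Sp_sub x ha)) (by rw [map_neg]; linarith)
  rw [map_neg] at h1
  linarith [mem_St'.1 h a ha]

include h0 hε in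
theorem Lev_of_eps (h : x ∈ Lev K (l₁ + ε • l₂)) : x ∈ Lev K l₁ ∧ x ∈ Lev K l₂ := by
  have h1 : ∀ a ∈ Sp x, l₁ a = 0 := fun a ha => le_antisymm
    (not_lt.1 fun e => (hε a (Sp_sub x ha) e).ne' (mem_Lev.1 h a ha)) (mem_St'.1 (St_of_eps hε h.1) a ha)
  refine ⟨mem_Lev.2 h1, mem_Lev.2 fun a ha => ?_⟩
  have h2 := mem_Lev.1 h a ha
  rw [AddMonoidHom.add_apply, h1 a ha, zero_add, AddMonoidHom.smul_apply, smul_eq_mul] at h2
  exact (mul_eq_zero.1 h2).resolve_left h0.ne'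

end eps

/-- a conjugate of a Levi element under the opposite radical -/
theorem conj_eq_of_St {b r : G8 K} (hr : r ∈ Lev K l) (hb : b ∈ Ru K (-l)) (h : b * r * b⁻¹ ∈ St K l) :
    b * r * b⁻¹ = r := by
  have h1 : b * (r * b⁻¹ * r⁻¹) = 1 := eq_one_of_Ru' (mul_mem hb ((tr_of hr.2).conj_Ru (inv_mem hb))) (by
    rw [show b * (r * b⁻¹ * r⁻¹) = b * r * b⁻¹ * r⁻¹ by group]
    exact mul_mem h (inv_mem hr.1))
  rw [show b * r * b⁻¹ = b * (r * b⁻¹ * r⁻¹) * r by group, h1, one_mul]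

theorem Sp_em {L : Type u} [Field L] (f : K →+* L) (x : G8 K) : Sp (em f x) = Sp x := by
  have h : ∀ i j, (mx (em f x) - 1) i j = f ((mx x - 1) i j) := fun i j => by
    rw [Matrix.sub_apply, Matrix.sub_apply, map_sub, mx_em, Matrix.map_apply, Matrix.one_apply, Matrix.one_apply]
    split_ifs
    · rw [map_one]
    · rw [map_zero]
  ext a
  simp only [Sp, Set.mem_ofPred_eq, h, map_ne_zero]

/-- automorphisms of the finite group -/
theorem aut8 [Finite K] (θ : MulAut (G8 K)) : ∃ (y : G8 K) (f : K ≃+* K), ∀ x, θ x = y * em (f : K →+* K) x * y⁻¹ := by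
  obtain ⟨y, φ, ⟨f, hf⟩, rfl⟩ := H460.IFO.fac8 θ
  refine ⟨y, f, fun x => ?_⟩
  have h : (φ.toMonoidHom.eqLocus (em (f : K →+* K))) = ⊤ := eq_top_of_xr fun r t => by
    show φ (xr r t) = em (f : K →+* K) (xr r t)
    rw [em_xr]
    exact mx_injective (hf (xr r t) r t r.2 rfl)
  have h1 : φ x = em (f : K →+* K) x := (h ▸ Subgroup.mem_top x : x ∈ φ.toMonoidHom.eqLocus (em (f : K →+* K)))
  rw [← h1]
  rfl

end gen

variable {K : Type} [Field K] {l l' l₁ l₂ : Co} {g g' g₁ g₂ : G8 K} {A : Subgroup (G8 K)}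

theorem Lv_eq (l : Co) : Lv K l = Lev K l := rfl

theorem Ru_eq (l : Co) : E8.Ru K l = Ru K l := by
  refine le_antisymm (iSup_le fun c => Rad_smul_le c.2) ?_
  obtain ⟨c, hc, h⟩ := Ru_le_Rad (K := K) l
  exact h.trans (le_iSup (fun c : {c : ℝ // 0 < c} => Rad K (c.1 • l)) ⟨c, hc⟩)

theorem pt_iff : Pt g l g' l' ↔ Tr l l' (g' * g⁻¹) := by
  rw [Pt, Tr, _root_.mul_inv_rev, inv_inv]

theorem cr_iff : CR A ↔ ∀ g l, In g A (St K l) → ∃ r ∈ Ru K l, In (r * g) A (Lev K l) := by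
  simp only [CR, Ru_eq, Lv_eq]

theorem In.mul {B B' : Subgroup (G8 K)} (h : In g A B) (h' : ∀ b ∈ B, g' * b * g'⁻¹ ∈ B') : In (g' * g) A B' := fun a ha => by
  rw [show g' * g * a * (g' * g)⁻¹ = g' * (g * a * g⁻¹) * g'⁻¹ by group]
  exact h' _ (h a ha)

/-- **two points fixed by a completely reducible group** -/
theorem apt (hA : CR A) (h₁ : In g₁ A (St K l₁)) (h₂ : In g₂ A (St K l₂)) :
    ∃ g m, Tr l₁ l₁ (g * g₁⁻¹) ∧ Tr l₂ m (g * g₂⁻¹) ∧ In g A (Lev K l₁) ∧ In g A (Lev K m) := by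
  obtain ⟨z, hz, w, hw⟩ := exists_apt l₁ l₂ (g₁ * g₂⁻¹)
  generalize cw l₂ w = m at hw
  have h3 : In (z * g₁) A (St K l₁) := In.mul h₁ fun b => (tr_of hz).conj
  have h4 : In (z * g₁) A (St K m) := by
    rw [show z * g₁ = z * (g₁ * g₂⁻¹) * g₂ by group]
    exact In.mul h₂ fun b => hw.conj
  obtain ⟨ε, h0, hε⟩ := exists_eps l₁ m
  obtain ⟨r, hr, h5⟩ := cr_iff.1 hA (z * g₁) (l₁ + ε • m) fun a ha => St_eps h0 (h3 a ha) (h4 a ha)
  obtain ⟨a, ha, b, hb, ha', hb', e⟩ := dec m (inv_mem hr)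
  have h6 : ∀ x ∈ A, a⁻¹ * (z * g₁) * x * (a⁻¹ * (z * g₁))⁻¹ = r * (z * g₁) * x * (r * (z * g₁))⁻¹ := fun x hx => by
    rw [← conj_eq_of_St (Lev_of_eps h0 hε (h5 x hx)).2 hb' ?_]
    · rw [show a = r⁻¹ * b⁻¹ by rw [e]; group]
      group
    · have h7 := In.mul h4 (g' := a⁻¹) (fun b => (tr_of (inv_mem ha')).conj) x hx
      rw [show a = r⁻¹ * b⁻¹ by rw [e]; group] at h7
      convert h7 using 1
      group
  refine ⟨a⁻¹ * (z * g₁), m, ?_, ?_, fun x hx => ?_, fun x hx => ?_⟩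
  · rw [show a⁻¹ * (z * g₁) * g₁⁻¹ = a⁻¹ * z by group]
    exact tr_of (mul_mem (inv_mem (St_of_eps hε ha.1)) hz)
  · rw [show a⁻¹ * (z * g₁) * g₂⁻¹ = a⁻¹ * (z * (g₁ * g₂⁻¹)) by group]
    exact (tr_of (inv_mem ha')).mul hw
  · rw [h6 x hx]
    exact (Lev_of_eps h0 hε (h5 x hx)).1
  · rw [h6 x hx]
    exact (Lev_of_eps h0 hε (h5 x hx)).2

/-- **BoxApt** -/
theorem boxApt : E8.BoxApt := by
  intro K _ A hA g₁ g₂ l₁ l₂ h₁ h₂
  obtain ⟨g, m, h3, h4, h5, h6⟩ := apt hA h₁ h₂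
  exact ⟨g, l₁, m, pt_iff.2 h3, pt_iff.2 h4, fun a ha => ⟨h5 a ha, h6 a ha⟩⟩

end Cfsg.Agent.Cam.E8K
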