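import Cfsg.Agent.Cam.E8K.B
import Cfsg.Agent.Cam.Ex.E2A
import Cfsg.Agent.KFacts.RgdFiltChev

/-!
# `E₈`: optimal points of `p`-subgroups and the main lemma (helper65)

* `DR X g l` : `g X g⁻¹ ≤ Rad l`; `ks_DR`, `opt_rel`, `exists_opt`;
* `Sc l x` : `x` acts by scalars on the graded pieces of `l`;
* `nu_le` : the optimal norms of `τ P` and `α P` agree; `ml` : the main lemma.
-/

set_option autoImplicit false
set_option maxRecDepth 100000
set_option linter.unusedVariables false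
set_option linter.unusedSectionVars false

namespace Cfsg.Agent.Cam.E8K

open CoxeterSystem Cfsg Cfsg.Lie Matrix
open Cfsg.Agent.Nodes.BNOf Cfsg.Agent.Nodes.RGDChev Cfsg.Agent.KFacts.RgdChevCoord
open Cfsg.Agent.H942.E8Tab (e8T)
open Cfsg.Agent.H288.E8L (wt act8)
open Cfsg.Agent.E8A Cfsg.Agent.E8A.Par
open Cfsg.Agent.E8A.Kem (cw cw_apply nrm nrm_cw mk mk_apply mk_sr mk_eq continuous_mk Dm exists_dm Ge mem_Ge SP PL St
  sp_le_PL PL_le_St TT_le_PL Rad)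
open Cfsg.Agent.Cam.E8 (In CR Pt Lv)
open Cfsg.Agent.Cam.Spor

section kempf

variable {K : Type} [Field K] {l l' l₁ l₂ : Co} {x y g g' g₁ g₂ : G8 K} {X Y Z : Subgroup (G8 K)}

/-- destabilizing pairs of a subgroup -/
def DR (X : Subgroup (G8 K)) (g : G8 K) (l : Co) : Prop := In g X (Rad K l)

theorem DR.tr (h : DR X g l) (hx : Tr l l' x) : DR X (x * g) l' := In.mul h fun _ => hx.conj_Rad

theorem isClosed_DR (X : Subgroup (G8 K)) : IsClosed {v : Fin 8 → ℝ | ∃ g, DR X g (mk v)} := by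
  have e : {v : Fin 8 → ℝ | ∃ g, DR X g (mk v)} =
      ⋃ S ∈ {S : Set Q8 | S ⊆ WD ∧ ∃ g : G8 K, ∀ a ∈ X, Sp (g * a * g⁻¹) ⊆ S}, ⋂ b ∈ S, {v : Fin 8 → ℝ | 1 ≤ mk v b} := by
    ext v
    simp only [Set.mem_ofPred_eq, Set.mem_iUnion, Set.mem_iInter]
    constructor
    · rintro ⟨g, hg⟩
      exact ⟨{b | b ∈ WD ∧ 1 ≤ mk v b}, ⟨fun _ h => h.1, g, fun a ha b hb => ⟨Sp_sub _ hb, mem_Rad.1 (hg a ha) b hb⟩⟩,
        fun _ h => h.2⟩
    · rintro ⟨S, ⟨-, g, hg⟩, hv⟩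
      exact ⟨g, fun a ha => mem_Rad.2 fun b hb => hv b (hg a ha hb)⟩
  rw [e]
  exact (WD_finite.finite_subsets.subset fun _ h => h.1).isClosed_biUnion fun S _ =>
    isClosed_biInter fun b _ => isClosed_le continuous_const (continuous_mk _)

theorem ks_DR (X : Subgroup (G8 K)) : KS (DR X) where
  closed := isClosed_DR X
  mid _ _ _ h₁ h₂ a ha := mem_Rad.2 fun b hb => by
    have e₁ := mem_Rad.1 (h₁ a ha) b hb
    have e₂ := mem_Rad.1 (h₂ a ha) b hb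
    simp only [AddMonoidHom.smul_apply, AddMonoidHom.add_apply, smul_eq_mul]
    linarith
  sp _ l _ h hm := h.tr (tr_of (PL_le_St l (sp_le_PL l hm)))
  rep _ l _ _ h hn := h.tr (bl_rep hn l).1.inv

theorem opt_of_le (h₁ : Opt (DR X) g₁ l₁) (h₂ : DR X g₂ l₂) (hn : nrm l₂ ≤ nrm l₁) : Opt (DR X) g₂ l₂ :=
  ⟨h₂, fun g l h => hn.trans (h₁.2 g l h)⟩

theorem opt_tr (h : Opt (DR X) g l) (hx : Tr l l' x) : Opt (DR X) (x * g) l' := opt_of_le h (h.1.tr hx) hx.nrm_eq.ge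

/-- **the optimal point is unique** -/
theorem opt_rel (h₁ : Opt (DR X) g₁ l₁) (h₂ : DR X g₂ l₂) (hn : nrm l₂ ≤ nrm l₁) : Tr l₁ l₂ (g₂ * g₁⁻¹) := by
  obtain ⟨z, hz, w, hw⟩ := exists_apt l₁ l₂ (g₁ * g₂⁻¹)
  have h3 := opt_tr (opt_of_le h₁ h₂ hn) hw
  rw [show z * (g₁ * g₂⁻¹) * g₂ = z * g₁ by group] at h3
  rw [← (ks_DR X).unique (opt_tr h₁ (tr_of hz)) h3] at hw
  have h4 := hw.inv.mul (tr_of hz)
  rwa [show (z * (g₁ * g₂⁻¹))⁻¹ * z = g₂ * g₁⁻¹ by group] at h4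

theorem opt_norm (h : Opt (DR X) g l) (hy : ∀ a ∈ X, y * a * y⁻¹ ∈ X) : g * y * g⁻¹ ∈ St K l :=
  (opt_rel h (g₂ := g * y) (fun a ha => by
    rw [show g * y * a * (g * y)⁻¹ = g * (y * a * y⁻¹) * g⁻¹ by group]
    exact h.1 _ (hy a ha)) le_rfl).st

theorem exists_opt [Finite K] (p : ℕ) [Fact p.Prime] [CharP K p] (hX : IsPGroup p X) : ∃ g l, Opt (DR X) g l := by
  have := finite8 (F := K)
  have := Frm.finW8
  obtain ⟨g, hg⟩ := KFacts.RgdBorelTits.exists_conj_U (KFacts.RgdFilt.GG_eq_top (G1_eq_top e8T cs8)) hX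
    (rgd (K := K) e8T cs8 p)
  obtain ⟨c, -, hc⟩ := Ru_le_Rad (K := K) rho1
  refine exists_opt' (ks_DR X) (g₀ := g⁻¹) (l₀ := c • rho1) fun a ha => hc (U_le_Ru ?_)
  rw [inv_inv]
  exact Nodes.Reps.mem_cj.1 (hg ha)

/-- the optimal norm of `X` is at most the optimal norm of `Y` -/
def NLe (X Y : Subgroup (G8 K)) : Prop := ∀ g l, DR Y g l → ∃ g' l', DR X g' l' ∧ nrm l' ≤ nrm l

theorem NLe.trans (h : NLe X Y) (h' : NLe Y Z) : NLe X Z := fun g l e => by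
  obtain ⟨g₁, l₁, e₁, n₁⟩ := h' g l e
  obtain ⟨g₂, l₂, e₂, n₂⟩ := h g₁ l₁ e₁
  exact ⟨g₂, l₂, e₂, n₂.trans n₁⟩

theorem NLe.rfl : NLe X X := fun g l e => ⟨g, l, e, le_rfl⟩

theorem nle_map [Finite K] (θ : MulAut (G8 K)) (X : Subgroup (G8 K)) : NLe X (X.map θ.toMonoidHom) := by
  intro g l h
  obtain ⟨y, f, hθ⟩ := aut8 θ⁻¹
  refine ⟨em (f : K →+* K) g * y⁻¹, l, fun a ha => mem_Rad.2 fun b hb => mem_Rad.1 (h (θ a) ⟨a, ha, rfl⟩) b ?_, le_rfl⟩
  rw [← Sp_em (f : K →+* K), map_mul, map_mul, map_inv]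
  have h1 := hθ (θ a)
  rw [MulAut.inv_apply_self] at h1
  rw [h1] at hb
  convert hb using 2
  group

theorem cl_conj_St (hx : x ∈ St K l) (hy : y ∈ St K l) : cl l l (x * y * x⁻¹) = cl l l x * cl l l y * (cl l l x)⁻¹ := by
  rw [cl_mul ((tr_of hx).mul (tr_of hy)) (tr_of hx).inv, cl_mul (tr_of hx) (tr_of hy), cl_inv (tr_of hx)]

theorem cl_mul_Ru (hx : x ∈ Lev K l) (hy : y ∈ Ru K l) : cl l l (x * y) = x := by
  rw [cl_mul (tr_of hx.1) (tr_of hy.1), hy.2, mul_one, cl_lev hx]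

/-! ### scalars on the graded pieces -/

theorem diag_comm {M : Mat K} {f f' : Q8 → K} (h : ∀ i j, M i j ≠ 0 → f (wt j) = f' (wt i)) :
    M * diagonal (fun i => f (wt i)) = diagonal (fun i => f' (wt i)) * M := by
  ext i j
  rw [mul_diagonal, diagonal_mul]
  by_cases e : M i j = 0
  · rw [e, zero_mul, mul_zero]
  · rw [h i j e, mul_comm]

/-- `x` acts by scalars on the graded pieces -/
def Sc (l : Co) (x : G8 K) : Prop := x ∈ St K l ∧ ∃ f : ℝ → K, msk l l (mx x) = diagonal fun i => f (l (wt i))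

theorem Sc.conj (h : Sc l x) (hy : Tr l l' y) : Sc l' (y * x * y⁻¹) := by
  obtain ⟨h1, f, hf⟩ := h
  refine ⟨hy.conj h1, f, ?_⟩
  rw [mx_mul, mx_mul, msk_mul (hy.1.mul (up_of_St h1)) hy.2, msk_mul hy.1 (up_of_St h1), hf,
    diag_comm (f := fun a => f (l a)) (f' := fun a => f (l' a)) fun i j e => by rw [(msk_ne e).1], Matrix.mul_assoc,
    ← msk_mul hy.1 hy.2, mx_mul_inv, msk_one, Matrix.mul_one]

theorem Sc.cl (h : Sc l x) (hx : x ∈ St K l') : Sc l (cl l' l' x) := by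
  obtain ⟨h1, f, hf⟩ := h
  refine ⟨cl_St hx h1, f, ?_⟩
  rw [mx_cl (tr_of hx), msk_comm, hf]
  exact msk_eq_self fun i j e => by
    by_contra e'
    exact e (diagonal_apply_ne _ fun e'' => e' (by rw [e'']))

theorem Sc.comm (h : Sc l x) (hy : y ∈ St K l) : x * y * x⁻¹ * y⁻¹ ∈ Ru K l := by
  obtain ⟨h1, f, hf⟩ := h
  have h2 : E8K.cl l l y * E8K.cl l l x = E8K.cl l l x * E8K.cl l l y := mx_injective (by
    rw [mx_mul, mx_mul, mx_cl (tr_of h1), mx_cl (tr_of hy), hf]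
    exact diag_comm (f := fun a => f (l a)) (f' := fun a => f (l a)) fun i j e => by rw [(msk_ne e).1])
  have h3 := mul_mem (mul_mem h1 hy) (inv_mem h1)
  refine ⟨mul_mem h3 (inv_mem hy), ?_⟩
  rw [cl_mul (tr_of h3) (tr_of hy).inv, cl_conj_St h1 hy, cl_inv (tr_of hy), ← h2]
  group

/-- an element of prime order which centralizes a subgroup of the Levi subgroup -/
theorem exists_lev_fix [Finite K] (p : ℕ) [Fact p.Prime] [CharP K p] {r : ℕ} (hr : r.Prime) (hrp : r ≠ p)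
    (hX : X ≤ Lev K l) (hx : x ∈ St K l) (h1 : x ^ r = 1) (hc : ∀ a ∈ X, a * x = x * a) :
    ∃ z ∈ Ru K l, (∀ a ∈ X, a * z = z * a) ∧ z * x * z⁻¹ ∈ Lev K l := by
  classical
  have := finite8 (F := K)
  have := Fact.mk hr
  set N : Subgroup (G8 K) := Ru K l ⊓ Subgroup.centralizer (X : Set (G8 K)) with hN
  have h2 : ∀ a ∈ X, a * cl l l x = cl l l x * a := fun a ha => by
    have h3 := cl_conj (bl_lev (hX ha)) hx
    rw [hc a ha, mul_inv_cancel_right] at h3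
    exact mul_inv_eq_iff_eq_mul.1 h3.symm
  have h3 : ∀ n, cl l l (x ^ n) = cl l l x ^ n := fun n => by
    induction n with
    | zero => rw [pow_zero, pow_zero, cl_one]
    | succ n ih => rw [pow_succ, pow_succ, cl_mul (tr_of (pow_mem hx n)) (tr_of hx), ih]
  have h4 := cl_mem hx
  have h5 := (tr_of hx).mul_cl
  have h6 := h3 r
  rw [h1, cl_one] at h6
  generalize cl l l x = c at h2 h4 h5 h6
  have key : ∀ c x : G8 K, c ∈ St K l → x * c⁻¹ ∈ Ru K l → (∀ a ∈ X, a * c = c * a) → (∀ a ∈ X, a * x = x * a) →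
      ∀ n ∈ N, c * n * x⁻¹ ∈ N := fun c x hc hx h1 h2 n hn => by
    refine Subgroup.mem_inf.2 ⟨?_, mul_mem (mul_mem (Subgroup.mem_centralizer_iff.2 h1) (Subgroup.mem_inf.1 hn).2)
      (inv_mem (Subgroup.mem_centralizer_iff.2 h2))⟩
    rw [show c * n * x⁻¹ = c * n * c⁻¹ * (x * c⁻¹)⁻¹ by group]
    exact mul_mem ((tr_of hc).conj_Ru hn.1) (inv_mem hx)
  let σ : Function.End N := fun n => ⟨c * n * x⁻¹, key c x h4.1 h5 h2 hc n n.2⟩
  have h7 : ∀ (k : ℕ) (n : N), (((σ ^ k) n : N) : G8 K) = c ^ k * n * (x ^ k)⁻¹ := fun k => by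
    induction k with
    | zero => intro n; simp [Function.End.one_def]
    | succ k ih =>
      intro n
      rw [pow_succ']
      show c * ((σ ^ k) n : N) * x⁻¹ = _
      rw [ih, pow_succ' c, pow_succ' x]
      group
  have h8 : σ ^ r ^ 1 = 1 := funext fun n => Subtype.ext (by rw [pow_one, h7, ← h6, h1, inv_one, one_mul, mul_one]; rfl)
  have h9 : IsPGroup p N := (isPGroup_Ru p l).to_le inf_le_left
  obtain ⟨k, hk⟩ := h9.exists_card_eq
  have := Fintype.ofFinite N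
  have h10 := Equiv.Perm.card_fixedPoints_modEq (p := r) (n := 1) (f := σ) h8
  obtain ⟨z, hz⟩ : ∃ z, σ z = z := by
    by_contra e
    have h11 : Nat.card N ≡ Nat.card (Function.fixedPoints σ) [MOD r] := by
      rw [Nat.card_eq_fintype_card, Nat.card_eq_fintype_card]
      convert h10
    have h12 : IsEmpty (Function.fixedPoints σ) := ⟨fun a => e ⟨a.1, a.2⟩⟩
    rw [hk, Nat.card_of_isEmpty] at h11
    exact hrp ((Nat.prime_dvd_prime_iff_eq hr Fact.out).1 (hr.dvd_of_dvd_pow (Nat.modEq_zero_iff_dvd.1 h11)))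
  have h12 : c * z * x⁻¹ = z := congrArg Subtype.val hz
  refine ⟨z, z.2.1, Subgroup.mem_centralizer_iff.1 z.2.2, ?_⟩
  rw [show (z : G8 K) * x * (z : G8 K)⁻¹ = c by
    rw [mul_inv_eq_iff_eq_mul, eq_comm, ← mul_inv_eq_iff_eq_mul, h12]]
  exact h4

end kempf

section core

variable {F : Type} [Field F] [Finite F] {p : ℕ} [Fact p.Prime] [CharP F p] {U : Type} [Group U] [Finite U]
  {τ α β : U →* G8 F} {R R' : Subgroup (G8 F)} {P : Subgroup U}

theorem ab_comm (c : Core τ α β R R') (u v : U) : α u * β v = β v * α u := c.pair'.comm u _ (c.bmem v)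

theorem beta_inj (c : Core τ α β R R') : Function.Injective β := (injective_iff_map_eq_one β).2 fun u hu => by
  refine c.anorm u (Subgroup.le_normalizer (Subgroup.mem_sup_left ⟨u, ?_⟩))
  rw [c.eq, hu, mul_one]

theorem exists_cmp' (c : Core τ α β R R') : ∃ (θ : MulAut (G8 F)) (ψ : MulAut U), ∀ u, θ (τ (ψ u)) = α u := by
  obtain ⟨θ, hθ⟩ := c.aconj
  have hinj : Function.Injective (θ.toMonoidHom.comp τ) := θ.injective.comp c.pair.inj
  have e : α.range = (θ.toMonoidHom.comp τ).range := by rw [hθ, MonoidHom.range_comp]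
  refine ⟨θ, ((MonoidHom.ofInjective c.pair'.inj).trans (MulEquiv.subgroupCongr e)).trans
    (MonoidHom.ofInjective hinj).symm, fun u => ?_⟩
  exact MonoidHom.apply_ofInjective_symm hinj _

/-- the optimal point of `β P`, with `α U` in the Levi subgroup -/
theorem exists_lev (c : Core τ α β R R') (hA : CR α.range) (hP : IsPGroup p P) :
    ∃ g l, Opt (DR (P.map β)) g l ∧ In g α.range (Lev F l) := by
  obtain ⟨g, l, ho⟩ := exists_opt p (hP.map β)
  obtain ⟨r, hr, h⟩ := cr_iff.1 hA g l (by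
    rintro _ ⟨u, rfl⟩
    refine opt_norm ho ?_
    rintro _ ⟨v, hv, rfl⟩
    rw [ab_comm c, mul_inv_cancel_right]
    exact ⟨v, hv, rfl⟩)
  exact ⟨r * g, l, opt_tr ho (tr_of hr.1), h⟩

/-- contraction -/
theorem contr (c : Core τ α β R R') {g₁ z : G8 F} {l m : Co} (h₁ : DR (P.map β) g₁ l) (hA : In g₁ α.range (Lev F l))
    (hz : z ∈ St F l) (h₂ : DR (P.map τ) (z * g₁) m) : DR (P.map α) (cl l l z * g₁) m := by
  rintro _ ⟨u, hu, rfl⟩
  have h3 := hA _ ⟨u, rfl⟩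
  have h4 := Rad_le_Ru l (h₁ _ ⟨u, hu, rfl⟩)
  have h5 := mul_mem h3.1 h4.1
  have h6 := h₂ _ ⟨u, hu, rfl⟩
  rw [c.eq, show z * g₁ * (α u * β u) * (z * g₁)⁻¹ = z * (g₁ * α u * g₁⁻¹ * (g₁ * β u * g₁⁻¹)) * z⁻¹ by group] at h6
  have h7 := cl_Rad ((tr_of hz).conj h5) h6
  rw [cl_conj_St hz h5, cl_mul_Ru h3 h4] at h7
  convert h7 using 1
  group

theorem nle_at (c : Core τ α β R R') (hA : CR α.range) (hP : IsPGroup p P) : NLe (P.map α) (P.map τ) := by
  intro g₂ m h₂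
  obtain ⟨g₁, l, h₁, h3⟩ := exists_lev c hA hP
  obtain ⟨z, hz, w, hw⟩ := exists_apt l m (g₁ * g₂⁻¹)
  have h4 := h₂.tr hw
  rw [show z * (g₁ * g₂⁻¹) * g₂ = z * g₁ by group] at h4
  exact ⟨_, _, contr c h₁.1 h3 hz h4, (nrm_cw _ _).le⟩

/-- **the optimal norms agree** -/
theorem nle_ta (c : Core τ α β R R') (hA : CR α.range) (hP : IsPGroup p P) : NLe (P.map τ) (P.map α) := by
  obtain ⟨θ, ψ, h⟩ := exists_cmp' c
  have h1 : ∀ P : Subgroup U, NLe ((P.map ψ.toMonoidHom).map τ) (P.map α) := fun P => by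
    have h2 := nle_map θ ((P.map ψ.toMonoidHom).map τ)
    rwa [show ((P.map ψ.toMonoidHom).map τ).map θ.toMonoidHom = P.map α by
      rw [Subgroup.map_map, Subgroup.map_map, show (θ.toMonoidHom.comp τ).comp ψ.toMonoidHom = α from MonoidHom.ext h]] at h2
  have h2 : ∀ (n : ℕ) (P : Subgroup U), ((P.map (ψ ^ n).toMonoidHom).map ψ.toMonoidHom) = P.map (ψ ^ (n + 1)).toMonoidHom :=
    fun n P => by
      rw [Subgroup.map_map, pow_succ']
      rfl
  have h3 : ∀ n : ℕ, NLe ((P.map (ψ ^ n).toMonoidHom).map α) (P.map α) := fun n => by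
    induction n with
    | zero =>
      rw [pow_zero, show (1 : MulAut U).toMonoidHom = MonoidHom.id U from rfl, Subgroup.map_id]
      exact NLe.rfl
    | succ n ih =>
      rw [← h2]
      exact ((nle_at c hA ((hP.map _).map _)).trans (h1 _)).trans ih
  have h4 := (h1 _).trans (h3 (orderOf ψ - 1))
  rwa [h2, Nat.sub_add_cancel (orderOf_pos ψ), pow_orderOf_eq_one,
    show (1 : MulAut U).toMonoidHom = MonoidHom.id U from rfl, Subgroup.map_id] at h4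

/-- **the main lemma** -/
theorem ml (c : Core τ α β R R') (hA : CR α.range) (hP : IsPGroup p P) {h : U} {r : ℕ} (hr : r.Prime) (hrp : r ≠ p)
    (hh : h ^ r = 1) (hn : ∀ u ∈ P, h * u * h⁻¹ ∈ P) {g₂ : G8 F} {m : Co} (ho : Opt (DR (P.map τ)) g₂ m)
    (hs : Sc m (g₂ * τ h * g₂⁻¹)) : h = 1 := by
  have := finite8 (F := F)
  obtain ⟨g₀, l, h₀, h1⟩ := exists_lev c hA hP
  obtain ⟨y, hy, h2, h3⟩ := exists_lev_fix p hr hrp (X := α.range.map (MulAut.conj g₀).toMonoidHom) (l := l)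
    (x := g₀ * β h * g₀⁻¹) (by rintro _ ⟨a, ha, rfl⟩; exact h1 a ha)
    (opt_norm h₀ (by
      rintro _ ⟨u, hu, rfl⟩
      rw [← map_inv, ← map_mul, ← map_mul]
      exact ⟨_, hn u hu, rfl⟩))
    (by rw [conj_pow, ← map_pow, hh, map_one, mul_one, mul_inv_cancel]) (by
      rintro _ ⟨_, ⟨u, rfl⟩, rfl⟩
      show g₀ * α u * g₀⁻¹ * _ = _ * (g₀ * α u * g₀⁻¹)
      rw [conj_mul, conj_mul, ab_comm c])
  have h4 : In (y * g₀) α.range (Lev F l) := fun a ha => by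
    rw [show y * g₀ * a * (y * g₀)⁻¹ = y * (g₀ * a * g₀⁻¹) * y⁻¹ by group, ← show g₀ * a * g₀⁻¹ * y = _ from h2 _ ⟨a, ha, rfl⟩,
      mul_inv_cancel_right]
    exact h1 a ha
  have h5 := (h₀.1.tr (tr_of hy.1))
  rw [show y * (g₀ * β h * g₀⁻¹) * y⁻¹ = y * g₀ * β h * (y * g₀)⁻¹ by group] at h3
  generalize y * g₀ = g₁ at h3 h4 h5
  obtain ⟨z, hz, w, hw⟩ := exists_apt l m (g₁ * g₂⁻¹)
  have h6 := opt_tr ho hw
  have h7 := hs.conj hw
  generalize cw m w = m' at h6 h7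
  rw [show z * (g₁ * g₂⁻¹) * g₂ = z * g₁ by group] at h6
  have h8 : g₁ * τ h * g₁⁻¹ ∈ Lev F l := by
    rw [c.eq, ← conj_mul]
    exact mul_mem (h4 _ ⟨h, rfl⟩) h3
  rw [show z * (g₁ * g₂⁻¹) * (g₂ * τ h * g₂⁻¹) * (z * (g₁ * g₂⁻¹))⁻¹ = z * (g₁ * τ h * g₁⁻¹) * z⁻¹ by group] at h7
  have h9 := h7.cl ((tr_of hz).conj h8.1)
  rw [cl_conj_St hz h8.1, cl_lev h8,
    show cl l l z * (g₁ * τ h * g₁⁻¹) * (cl l l z)⁻¹ = cl l l z * g₁ * τ h * (cl l l z * g₁)⁻¹ by group] at h9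
  have h10 : Opt (DR (P.map α)) (cl l l z * g₁) m' := ⟨contr c h5 h4 hz h6.1, fun g l' e => by
    obtain ⟨g', l'', e', e''⟩ := nle_ta c hA hP g l' e
    exact (h6.2 _ _ e').trans e''⟩
  generalize cl l l z * g₁ = g at h9 h10
  have h11 : ∀ v, g * β v * g⁻¹ ∈ St F m' := fun v => opt_norm h10 (by
    rintro _ ⟨u, hu, rfl⟩
    rw [← ab_comm c, mul_inv_cancel_right]
    exact ⟨u, hu, rfl⟩)
  let φ : U →* G8 F := (MulAut.conj g).toMonoidHom.comp β
  have hφ : Function.Injective φ := (MulAut.conj g).injective.comp (beta_inj c)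
  have h12 : ((Ru F m').comap φ).Normal := ⟨fun n hn v => by
    rw [Subgroup.mem_comap, map_mul, map_mul, map_inv]
    exact (tr_of (h11 v)).conj_Ru hn⟩
  have := c.simple
  rcases h12.eq_bot_or_eq_top with e | e
  · refine eq_one_of_comm c.simple c.noncomm fun v => ?_
    have h13 : h * v * h⁻¹ * v⁻¹ ∈ (Ru F m').comap φ := by
      have h14 := h9.comm (h11 v)
      rw [Subgroup.mem_comap]
      convert h14 using 1
      show g * β (h * v * h⁻¹ * v⁻¹) * g⁻¹ = _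
      rw [c.eq, ab_comm c, map_mul, map_mul, map_mul, map_inv, map_inv]
      calc _ = g * β h * (β v * α h) * (α h)⁻¹ * (β h)⁻¹ * (β v)⁻¹ * g⁻¹ := by group
        _ = _ := by rw [← ab_comm c]; group
    rw [e, Subgroup.mem_bot] at h13
    calc h * v = h * v * h⁻¹ * v⁻¹ * (v * h) := by group
      _ = _ := by rw [h13, one_mul]
  · have h13 : (⊤ : Subgroup U) = ⊥ := Ex.E2.eq_bot_of_pgroup (commutator_top c.simple c.noncomm)
      (e ▸ (isPGroup_Ru p m').comap_of_injective φ hφ)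
    exact absurd h13 top_ne_bot

end core

end Cfsg.Agent.Cam.E8K
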