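import Cfsg.Agent.Cam.E8K.C
import Cfsg.Agent.H129.TorusChar

/-!
# `E₈`: points of minimal norm, opposite points, the torus of a point (helper65)

* `ip` : the inner product; `Mn R v` : `v` is a lower bound for the norms of the points of the elements of `C(R)`;
* `Mn.supp`, `Mn.pos` : the support of an element of minimal norm lies on the ray of its point; `Mn.opp` : opposite points;
* `Tz φ c s` : `s` is the torus element with the character `c ^ φ`; `exists_phi`.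
-/

set_option autoImplicit false
set_option maxRecDepth 100000
set_option linter.unusedVariables false
set_option linter.unusedSectionVars false

namespace Cfsg.Agent.Cam.E8K

open CoxeterSystem Cfsg Cfsg.Lie Matrix
open Cfsg.Agent.ChevalleyStructure.CoxeterGeom Cfsg.Agent.Tits.Roots
open Cfsg.Agent.Nodes.BNOf Cfsg.Agent.Nodes.RGDChev Cfsg.Agent.KFacts.RgdChevCoord
open Cfsg.Agent.H942.E8Tab (e8T)
open Cfsg.Agent.H288.E8L (wt act8)
open Cfsg.Agent.E8A Cfsg.Agent.E8A.Par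
open Cfsg.Agent.E8A.Kem (cw cw_apply nrm nrm_cw eq_of_nrm St Rad)
open Cfsg.Agent.Cam.E8 (In CR Pt Lv)
open Subgroup (centralizer closure zpowers mem_centralizer_iff)

/-! ### the inner product -/

/-- the inner product -/
noncomputable def ip (l l' : Co) : ℝ :=
  haveI : Fintype W8 := Fintype.ofFinite W8
  ∑ w : W8, ∑ i : Fin 8, l (act8 w (sr i)) * l' (act8 w (sr i))

theorem ip_comm (l l' : Co) : ip l l' = ip l' l :=
  Finset.sum_congr rfl fun _ _ => Finset.sum_congr rfl fun _ _ => mul_comm _ _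

theorem ip_self (l : Co) : ip l l = nrm l :=
  Finset.sum_congr rfl fun _ _ => Finset.sum_congr rfl fun _ _ => (sq _).symm

theorem ip_lin (l l₁ l₂ : Co) (a b : ℝ) : ip l (a • l₁ + b • l₂) = a * ip l l₁ + b * ip l l₂ := by
  unfold ip
  rw [Finset.mul_sum, Finset.mul_sum, ← Finset.sum_add_distrib]
  refine Finset.sum_congr rfl fun w _ => ?_
  rw [Finset.mul_sum, Finset.mul_sum, ← Finset.sum_add_distrib]
  refine Finset.sum_congr rfl fun i _ => ?_
  rw [AddMonoidHom.add_apply, AddMonoidHom.smul_apply, AddMonoidHom.smul_apply, smul_eq_mul, smul_eq_mul]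
  ring

theorem nrm_lin (l₁ l₂ : Co) (a b : ℝ) :
    nrm (a • l₁ + b • l₂) = a ^ 2 * nrm l₁ + 2 * a * b * ip l₁ l₂ + b ^ 2 * nrm l₂ := by
  rw [← ip_self, ip_lin, ip_comm _ l₁, ip_comm _ l₂, ip_lin, ip_lin, ip_self, ip_self, ip_comm l₂ l₁]
  ring

theorem nrm_pos {l : Co} (h : l ≠ 0) : 0 < nrm l := not_le.1 fun e => h (eq_of_nrm (by rwa [sub_zero]))

theorem nrm_nonneg (l : Co) : 0 ≤ nrm l := (sq_nonneg _).trans (Kem.sq_le_nrm l 0)

section min

variable {K : Type} [Field K] {l l' m : Co} {x y r u w g : G8 K} {R : Subgroup (G8 K)}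

theorem cl_comm (hr : r ∈ Lev K l) (hr' : r ∈ Lev K l') (hx : Tr l l' x) (h : r * x = x * r) :
    r * cl l l' x = cl l l' x * r := by
  have h1 := cl_mul (tr_of hr'.1) hx
  rw [h, cl_mul hx (tr_of hr.1), cl_lev hr, cl_lev hr'] at h1
  exact h1.symm

theorem Lev_lin (h : x ∈ Lev K l) (h' : x ∈ Lev K l') (a b : ℝ) : x ∈ Lev K (a • l + b • l') := mem_Lev.2 fun c hc => by
  rw [AddMonoidHom.add_apply, AddMonoidHom.smul_apply, AddMonoidHom.smul_apply, mem_Lev.1 h c hc, mem_Lev.1 h' c hc,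
    smul_zero, smul_zero, add_zero]

/-- a lower bound for the norms of the points of the elements of the centralizer -/
def Mn (R : Subgroup (G8 K)) (v : ℝ) : Prop :=
  ∀ u ∈ centralizer (R : Set (G8 K)), u ≠ 1 → ∀ g l, g * u * g⁻¹ ∈ Rad K l → v ≤ nrm l

theorem mem_cent_conj : g * u * g⁻¹ ∈ centralizer (R.map (MulAut.conj g).toMonoidHom : Set (G8 K)) ↔
    u ∈ centralizer (R : Set (G8 K)) := Spor.map_centralizer_equiv (MulAut.conj g) R ▸ Spor.mem_map_equiv' (MulAut.conj g)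

theorem Mn.conj {v : ℝ} (h : Mn R v) (g : G8 K) : Mn (R.map (MulAut.conj g).toMonoidHom) v := fun u hu h1 g' l e => by
  refine h (g⁻¹ * u * g) (mem_cent_conj.1 (by rwa [show g * (g⁻¹ * u * g) * g⁻¹ = u by group])) (fun e' => h1 ?_) (g' * g) l ?_
  · rw [show u = g * (g⁻¹ * u * g) * g⁻¹ by group, e', mul_one, mul_inv_cancel]
  · rwa [show g' * g * (g⁻¹ * u * g) * (g' * g)⁻¹ = g' * u * g'⁻¹ by group]

/-- the support of an element of minimal norm -/
theorem Mn.supp (h : Mn R (nrm l)) (hl : R ≤ Lev K l) (hm : R ≤ Lev K m) (hu : u ∈ centralizer (R : Set (G8 K)))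
    (hu' : u ∈ Rad K l) (hip : ip l m ≤ 0) : ∀ a ∈ Sp u, m a ≤ 0 := by
  intro a₀ ha₀
  by_contra h0
  have h1 := mem_Rad.1 hu'
  obtain ⟨a, ha, hmax⟩ := Set.exists_max_image (Sp u) (fun a => m a / l a) (Sp_finite u) ⟨a₀, ha₀⟩
  have hM : 0 < m a / l a := (div_pos (not_le.1 h0) (zero_lt_one.trans_le (h1 a₀ ha₀))).trans_le (hmax a₀ ha₀)
  have hMa : m a / l a * l a = m a := div_mul_cancel₀ _ (zero_lt_one.trans_le (h1 a ha)).ne'
  generalize m a / l a = M at hmax hM hMa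
  have hk : ∀ b, (M • l + (-1 : ℝ) • m) b = M * l b - m b := fun b => by
    rw [AddMonoidHom.add_apply, AddMonoidHom.smul_apply, AddMonoidHom.smul_apply, smul_eq_mul, smul_eq_mul]
    ring
  have h2 : u ∈ St K (M • l + (-1 : ℝ) • m) := mem_St'.2 fun b hb => by
    rw [hk, sub_nonneg]
    exact (div_le_iff₀ (zero_lt_one.trans_le (h1 b hb))).1 (hmax b hb)
  have hN : 0 < nrm l := nrm_pos fun e => by
    have h3 := h1 a ha
    rw [e, AddMonoidHom.zero_apply] at h3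
    exact absurd h3 (by norm_num)
  have hZ := nrm_nonneg m
  obtain ⟨ε, hε, hε'⟩ : ∃ ε : ℝ, 0 < ε ∧ ε * (nrm m + 1) = M * nrm l :=
    ⟨M * nrm l / (nrm m + 1), by positivity, div_mul_cancel₀ _ (by positivity)⟩
  obtain ⟨c, hc, hc'⟩ : ∃ c : ℝ, 0 < c ∧ c * (1 + ε * M) = 1 :=
    ⟨(1 + ε * M)⁻¹, by positivity, inv_mul_cancel₀ (by positivity)⟩
  have h3 := h (cl _ _ u) (mem_centralizer_iff.2 fun r hr => cl_comm (Lev_lin (hl hr) (hm hr) M (-1))
    (Lev_lin (hl hr) (hm hr) M (-1)) (tr_of h2) (mem_centralizer_iff.1 hu r hr)) (fun e => by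
      have h3 := (Sp_cl h2).2 ⟨ha, by rw [hk, hMa, sub_self]⟩
      rw [e] at h3
      obtain ⟨i, j, h4, -⟩ := h3
      exact h4 (by rw [mx_one, sub_self, Matrix.zero_apply])) 1 (c • l + (c * ε) • m) (by
      rw [one_mul, inv_one, mul_one]
      refine mem_Rad.2 fun b hb => ?_
      obtain ⟨h3, h4⟩ := (Sp_cl h2).1 hb
      rw [hk, sub_eq_zero] at h4
      rw [AddMonoidHom.add_apply, AddMonoidHom.smul_apply, AddMonoidHom.smul_apply, smul_eq_mul, smul_eq_mul, ← h4,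
        show c * l b + c * ε * (M * l b) = c * (1 + ε * M) * l b by ring, hc', one_mul]
      exact h1 b h3)
  rw [nrm_lin] at h3
  have h4 : (c * (1 + ε * M)) ^ 2 * nrm l ≤ c ^ 2 * (nrm l + ε ^ 2 * nrm m) := by
    rw [hc']
    nlinarith [mul_nonneg (mul_pos (mul_pos hc hc) hε).le (neg_nonneg.2 hip)]
  rw [mul_pow, mul_assoc, mul_le_mul_iff_right₀ (by positivity)] at h4
  have h5 : ε * (2 * (M * nrm l)) ≤ ε * (ε * nrm m) := by nlinarith [mul_pos (mul_pos (mul_pos hε hM) (mul_pos hε hM)) hN]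
  rw [mul_le_mul_iff_right₀ hε] at h5
  nlinarith [mul_pos hM hN]

theorem Mn.pos (h : Mn R (nrm l)) (hl : R ≤ Lev K l) (hm : R ≤ Lev K m) (hu : u ∈ centralizer (R : Set (G8 K)))
    (hu' : u ∈ Rad K l) (hip : 0 < ip l m) : u ∈ Ru K m := mem_Ru'.2 fun a ha => by
  have h1 := mem_Rad.1 hu' a ha
  have hN : 0 < nrm l := nrm_pos fun e => by
    rw [e, AddMonoidHom.zero_apply] at h1
    exact absurd h1 (by norm_num)
  have h2 := h.supp hl (fun r hr => Lev_lin (hl hr) (hm hr) (ip l m / nrm l) (-1)) hu hu' (by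
    rw [ip_lin, ip_self, div_mul_cancel₀ _ hN.ne']
    linarith) a ha
  rw [AddMonoidHom.add_apply, AddMonoidHom.smul_apply, AddMonoidHom.smul_apply, smul_eq_mul, smul_eq_mul] at h2
  nlinarith [mul_pos (div_pos hip hN) (zero_lt_one.trans_le h1)]

/-- **opposite points** -/
theorem Mn.opp (p : ℕ) [Fact p.Prime] [CharP K p] (h : Mn R (nrm l)) (hR : CR R) (hl : R ≤ Lev K l)
    (hu : u ∈ centralizer (R : Set (G8 K))) (hu' : u ∈ Rad K l) (hy : y ∈ centralizer (R : Set (G8 K)))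
    (hp : ¬ IsPGroup p (closure {u, y * u * y⁻¹} : Subgroup (G8 K))) : ∃ w ∈ Ru K l, Tr l (-l) (w * y) := by
  obtain ⟨g, m, h1, h2, h3, h4⟩ := apt hR (g₁ := 1) (g₂ := y⁻¹) (l₁ := l) (l₂ := l)
    (fun r hr => by rw [one_mul, inv_one, mul_one]; exact (hl hr).1)
    (fun r hr => by rw [inv_inv, mul_assoc, mem_centralizer_iff.1 hy r hr, inv_mul_cancel_left]; exact (hl hr).1)
  rw [inv_one, mul_one] at h1
  rw [inv_inv] at h2
  by_cases e : m = -l
  · refine ⟨_, h1.cl_mul', ?_⟩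
    rw [mul_assoc]
    exact (bl_cl h1).inv.2.mul (e ▸ h2)
  exfalso
  have h5 : R.map (MulAut.conj g).toMonoidHom ≤ Lev K l := by rintro _ ⟨r, hr, rfl⟩; exact h3 r hr
  have h6 : R.map (MulAut.conj g).toMonoidHom ≤ Lev K m := by rintro _ ⟨r, hr, rfl⟩; exact h4 r hr
  have h7 : R.map (MulAut.conj g).toMonoidHom ≤ Lev K ((1 : ℝ) • l + (1 : ℝ) • m) := fun r hr => Lev_lin (h5 hr) (h6 hr) 1 1
  have h8 := nrm_pos (l := (1 : ℝ) • l + (1 : ℝ) • m) fun e' => e (by
    rw [one_smul, one_smul] at e'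
    exact eq_neg_of_add_eq_zero_right e')
  have h9 := h2.nrm_eq
  rw [nrm_lin] at h8
  have h10 := (h.conj g).pos h5 h7 (mem_cent_conj.2 hu) (h1.conj_Rad hu') (by rw [ip_lin, ip_self]; linarith)
  have h11 := (h9 ▸ h.conj g).pos h6 h7 (mem_cent_conj.2 (mul_mem (mul_mem hy hu) (inv_mem hy)))
    (by
      rw [show g * (y * u * y⁻¹) * g⁻¹ = g * y * u * (g * y)⁻¹ by group]
      exact h2.conj_Rad hu') (by rw [ip_lin, ip_self, ip_comm]; linarith)
  refine hp (((isPGroup_Ru p ((1 : ℝ) • l + (1 : ℝ) • m)).comap_of_injective (MulAut.conj g).toMonoidHom (MulAut.conj g).injective).to_le ?_)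
  rw [Subgroup.closure_le]
  rintro _ (rfl | rfl)
  exacts [h10, h11]

theorem opp_comm (hw : w ∈ Ru K l) (h : Tr l (-l) (w * y)) (hr : r ∈ Lev K l) (hc : r * y = y * r) :
    r * w = w * r ∧ r * cl l (-l) (w * y) = cl l (-l) (w * y) * r := by
  have h1 : r * w * r⁻¹ * w⁻¹ = 1 := eq_one_of_Ru (mul_mem ((tr_of hr.1).conj_Ru hw) (inv_mem hw)) (by
    have h2 := (((tr_of hr.2).mul h).mul (tr_of hr.1).inv).mul h.inv
    rw [show r * (w * y) * r⁻¹ * (w * y)⁻¹ = r * w * (y * r⁻¹ * y⁻¹) * w⁻¹ by group,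
      show y * r⁻¹ * y⁻¹ = r⁻¹ by rw [mul_inv_eq_iff_eq_mul, eq_inv_mul_iff_mul_eq, ← mul_assoc, hc, mul_inv_cancel_right]] at h2
    exact h2.st)
  have h2 : r * w = w * r := by rwa [mul_inv_eq_one, mul_inv_eq_iff_eq_mul] at h1
  exact ⟨h2, cl_comm hr (by rwa [Lev_neg]) h (by rw [← mul_assoc, h2, mul_assoc, hc, mul_assoc])⟩

/-! ### the torus of a point -/

theorem exists_phi (h : l ≠ 0) : ∃ φ : Q8 →+ ℤ, (∀ a, l a = 0 → φ a = 0) ∧ ∃ a, φ a = 1 := by
  let f : Q8 →ₗ[ℤ] ℝ := l.toIntLinearMap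
  have : Module.Finite ℤ (LinearMap.range f) := Module.Finite.range f
  have : Nontrivial (LinearMap.range f) := by
    obtain ⟨a, ha⟩ := DFunLike.ne_iff.1 h
    exact ⟨⟨⟨f a, a, rfl⟩, 0, fun e => ha (congrArg Subtype.val e)⟩⟩
  let b := Module.Free.chooseBasis ℤ (LinearMap.range f)
  obtain ⟨i⟩ := b.index_nonempty
  refine ⟨((b.coord i).comp f.rangeRestrict).toAddMonoidHom, fun a ha => ?_, ?_⟩
  · show b.coord i (f.rangeRestrict a) = 0
    rw [show f.rangeRestrict a = 0 from Subtype.ext ha, map_zero]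
  · obtain ⟨a, ha⟩ := f.surjective_rangeRestrict (b i)
    refine ⟨a, ?_⟩
    show b.coord i (f.rangeRestrict a) = 1
    rw [ha]
    simp

/-- the torus element with the character `c ^ φ` -/
def Tz (φ : Q8 →+ ℤ) (c : Kˣ) (s : G8 K) : Prop := mx s = diagonal fun i => (c : K) ^ φ (wt i)

variable {φ : Q8 →+ ℤ} {c : Kˣ} {s : G8 K}

theorem isMC_phi (φ : Q8 →+ ℤ) (c : Kˣ) : H129.TorusChar.IsMC fun a : Q8 => (c : K) ^ φ a :=
  ⟨by rw [map_zero, zpow_zero], fun a b => by rw [map_add, zpow_add₀ c.ne_zero]⟩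

theorem exists_Tz (φ : Q8 →+ ℤ) (c : Kˣ) : ∃ s : G8 K, Tz φ c s := by
  obtain ⟨t, ht, h⟩ := H129.TorusChar.exists_cX e8T Frm.invB8 one_ne_zero (isMC_phi φ c) fun i => ⟨_, pow_one _⟩
  refine ⟨t, ?_⟩
  rw [Tz, mx_TT ht]
  congr 1
  exact funext fun i => h _

theorem Tz.pow (h : Tz φ c s) (k : ℕ) : Tz φ (c ^ k) (s ^ k) := by
  rw [Tz, Kem.mx_pow, h, diagonal_pow]
  congr 1
  funext i
  rw [Pi.pow_apply, Units.val_pow_eq_pow_val, ← zpow_natCast, ← zpow_natCast, ← _root_.zpow_mul, ← _root_.zpow_mul, mul_comm]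

theorem Tz.eq_one (h : Tz φ 1 s) : s = 1 := mx_injective (by
  rw [h, mx_one, ← diagonal_one]
  congr 1
  funext i
  rw [Units.val_one, _root_.one_zpow])

theorem Tz.eq_one' (h : Tz φ c (1 : G8 K)) {a : Q8} (ha : φ a = 1) : c = 1 := by
  have h1 := (isMC_phi φ c).ext (ψ := fun _ => 1) ⟨rfl, fun _ _ => (mul_one _).symm⟩ (fun i => by
    obtain ⟨r, hr⟩ := H288.E8L.exists_idx (isRoot_sr cs8 e8T.isCartan i)
    have h2 := congrFun (congrFun h (Sum.inr r)) (Sum.inr r)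
    rw [mx_one, Matrix.one_apply_eq, diagonal_apply_eq, H288.E8L.wt_inr, hr] at h2
    exact h2.symm) a
  rw [ha, zpow_one] at h1
  exact Units.ext h1

theorem Tz.lev (h : Tz φ c s) (l : Co) : s ∈ Lev K l := mem_Lev.2 (forall_Sp.2 fun i j e => by
  by_cases e' : i = j
  · rw [e', sub_self, map_zero]
  · rw [sub_one_ne e', h, diagonal_apply_ne _ e'] at e
    exact absurd rfl e)

theorem Tz.sc (h : Tz φ c s) (hφ : ∀ a, l a = 0 → φ a = 0) : Sc l s := by
  classical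
  refine ⟨(h.lev l).1, fun x => if e : ∃ a, l a = x then (c : K) ^ φ e.choose else 0, ?_⟩
  rw [msk_bl (bl_lev (h.lev l)), h]
  congr 1
  funext i
  have e : ∃ a, l a = l (wt i) := ⟨_, rfl⟩
  have h1 := hφ (e.choose - wt i) (by rw [map_sub, e.choose_spec, sub_self])
  rw [map_sub, sub_eq_zero] at h1
  beta_reduce
  rw [dif_pos e, h1]

theorem Tz.comm (h : Tz φ c s) (hφ : ∀ a, l a = 0 → φ a = 0) (hy : y ∈ Lev K l) : y * s = s * y := mx_injective (by
  rw [mx_mul, mx_mul, h]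
  refine diag_comm (f := fun a => (c : K) ^ φ a) (f' := fun a => (c : K) ^ φ a) fun i j e => ?_
  have h1 := hφ (wt j - wt i) (by rw [map_sub, (bl_lev hy).eq e, sub_self])
  rw [map_sub, sub_eq_zero] at h1
  rw [h1])

theorem Tz.inv (h : Tz φ c s) (hφ : ∀ a, l a = 0 → φ a = 0) (hy : Bl l (-l) y) : s * y * s = y := mx_injective (by
  rw [mx_mul, mx_mul, h]
  ext i j
  rw [mul_diagonal, diagonal_mul]
  by_cases e : mx y i j = 0
  · rw [e, mul_zero, zero_mul]
  · have h1 := hφ (wt i + wt j) (by rw [map_add, hy.eq e, AddMonoidHom.neg_apply, add_neg_cancel])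
    rw [mul_right_comm, ← zpow_add₀ c.ne_zero, ← map_add, h1, zpow_zero, one_mul])

end min

end Cfsg.Agent.Cam.E8K
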