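import Cfsg.Agent.Cam.E8K.D

/-!
# `E₈`: the centralizer of `R` has order prime to `p` (helper65)

* `H5 p τ R` : an element of order `p` of `C(R)` which centralizes an involution of `T` lies in `T`;
* `uni` : `q ≥ 4`, and `q ≠ 5` or `H5 p τ R`: `p` does not divide the order of `C(R)`.
-/

set_option autoImplicit false
set_option maxRecDepth 100000
set_option linter.unusedVariables false
set_option linter.unusedSectionVars false

namespace Cfsg.Agent.Cam.E8K

open Cfsg Cfsg.Lie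
open Cfsg.Agent.E8A Cfsg.Agent.E8A.Par
open Cfsg.Agent.E8A.Kem (nrm St Rad)
open Cfsg.Agent.Cam.E8 (In CR Pt Lv AllCR)
open Cfsg.Agent.Cam.Spor
open Subgroup

section grp

variable {L : Type} [Group L]

theorem pow_coset {T : Subgroup L} {a b : L} (ha : a ∈ normalizer (T : Set L)) (h : a⁻¹ * b ∈ T) (k : ℕ) :
    (a ^ k)⁻¹ * b ^ k ∈ T := by
  induction k with
  | zero => rw [pow_zero, pow_zero, inv_one, one_mul]; exact one_mem _
  | succ k ih =>
    rw [show (a ^ (k + 1))⁻¹ * b ^ (k + 1) = a⁻¹ * ((a ^ k)⁻¹ * b ^ k) * a⁻¹⁻¹ * (a⁻¹ * b) by rw [pow_succ, pow_succ]; group]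
    exact mul_mem (conj_mem_of_norm (inv_mem ha) ih) h

/-- Baer–Suzuki inside a group with two generators -/
theorem exists_pair2 [Finite L] {p : ℕ} [Fact p.Prime] {a b : L} (hb : b ^ p = 1)
    (h : ¬ IsPGroup p (closure {a, b} : Subgroup L)) :
    ∃ y ∈ closure ({a, b} : Set L), ¬ IsPGroup p (closure {a, y * a * y⁻¹} : Subgroup L) := by
  by_contra e
  push Not at e
  set H := closure ({a, b} : Set L) with hH
  have ha : a ∈ H := subset_closure (Or.inl rfl)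
  have hb' : b ∈ H := subset_closure (Or.inr rfl)
  have h1 := Involutions.BaerSuzuki.baer_suzuki_element (p := p) (⟨a, ha⟩ : H) fun g => by
    refine ((e g.1 g.2).comap_of_injective H.subtype H.subtype_injective).to_le ?_
    rw [closure_le]
    rintro _ (rfl | rfl)
    · exact subset_closure (Or.inl rfl)
    · exact subset_closure (Or.inr rfl)
  have h2 : IsPGroup p (zpowers (⟨b, hb'⟩ : H)) := by
    rintro ⟨_, k, rfl⟩
    refine ⟨1, Subtype.ext (Subtype.ext ?_)⟩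
    show (b ^ k) ^ p ^ 1 = 1
    rw [pow_one, ← zpow_natCast, zpow_comm, zpow_natCast, hb, one_zpow]
  refine h (((h1.to_sup_of_normal_left h2).map H.subtype).to_le ?_)
  rw [closure_le]
  rintro _ (rfl | rfl)
  · exact ⟨⟨_, ha⟩, mem_sup_left (subset_normalClosure rfl), rfl⟩
  · exact ⟨⟨_, hb'⟩, mem_sup_right (mem_zpowers _), rfl⟩

/-- an element of order `p` of the centralizer of `R` which centralizes an involution of `T` lies in `T` -/
def H5 (p : ℕ) {U : Type} [Group U] (τ : U →* L) (R : Subgroup L) : Prop :=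
  ∀ c ∈ centralizer (R : Set L), c ^ p = 1 → ∀ z ∈ τ.range, z ≠ 1 → z ^ 2 = 1 → c * z = z * c → c ∈ τ.range

theorem H5.map {p : ℕ} {U : Type} [Group U] {τ : U →* L} {R : Subgroup L} (h : H5 p τ R) (e : L ≃* L) :
    H5 p (e.toMonoidHom.comp τ) (R.map e.toMonoidHom) := by
  rintro c hc hp _ ⟨v, rfl⟩ h1 h2 h3
  obtain ⟨c, rfl⟩ := e.surjective c
  rw [← map_centralizer_equiv, mem_map_equiv'] at hc
  obtain ⟨x, hx⟩ := h c hc (e.injective (by rw [map_pow, hp, map_one])) (τ v) ⟨v, rfl⟩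
    (fun e' => h1 (by rw [MonoidHom.comp_apply, e', map_one])) (e.injective (by rw [map_pow, map_one]; exact h2))
    (e.injective (by rw [map_mul, map_mul]; exact h3))
  exact ⟨x, congrArg e hx⟩

end grp

variable {F : Type} [Field F] [Finite F] {p : ℕ} [Fact p.Prime] [CharP F p] {U : Type} [Group U] [Finite U]
  {τ α β : U →* G8 F} {R R' : Subgroup (G8 F)}

theorem coprime_card (p : ℕ) [Fact p.Prime] [CharP F p] : p.Coprime (Nat.card F - 1) := by
  obtain ⟨n, hn, he⟩ := exists_card_eq p (F := F)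
  have hp : p.Prime := Fact.out
  refine hp.coprime_iff_not_dvd.2 fun h => hp.one_lt.ne' (Nat.dvd_one.1 ?_)
  have h1 := Nat.dvd_sub (he ▸ dvd_pow_self p hn.ne' : p ∣ Nat.card F) h
  rwa [Nat.sub_sub_self (Nat.card_pos (α := F))] at h1

theorem uni0 (hq : 4 ≤ Nat.card F) (h5 : Nat.card F ≠ 5 ∨ H5 p τ R) (c : Core τ α β R R') (hA : CR α.range) (hR : CR R) {l : Co}
    (hl : R ≤ Lev F l) (hm : Mn R (nrm l)) {u : G8 F} (hu : u ∈ centralizer (R : Set (G8 F))) (hu1 : u ≠ 1)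
    (hup : u ^ p = 1) (hu' : u ∈ Rad F l) : False := by
  have := finite8 (F := F)
  have := c.simple
  have hs : IsSimpleGroup τ.range := (MonoidHom.ofInjective c.pair.inj).symm.isSimpleGroup
  have hn : ¬ IsMulCommutative τ.range := fun h => c.noncomm ⟨⟨fun a b => c.pair.inj (by
    rw [map_mul, map_mul]
    exact congrArg Subtype.val (h.1.1 ⟨τ a, a, rfl⟩ ⟨τ b, b, rfl⟩))⟩⟩
  have hT : τ.range ≤ centralizer (R : Set (G8 F)) := by
    rintro _ ⟨v, rfl⟩
    exact mem_centralizer_iff.2 fun r hr => (c.pair.comm v r hr).symm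
  have hN := c.pair.cnorm
  obtain ⟨t, ht, hp⟩ := Ex.E2.exists_pair hs hn (p := p) (hN hu) fun h => hu1 (c.pair.cfaith u hu fun v => h _ ⟨v, rfl⟩)
  obtain ⟨w, hw, hwt⟩ := hm.opp p hR hl hu hu' (hT ht) hp
  have hw' : w ∈ centralizer (R : Set (G8 F)) := mem_centralizer_iff.2 fun r hr =>
    (opp_comm hw hwt (hl hr) (mem_centralizer_iff.1 (hT ht) r hr)).1
  have hn' : cl l (-l) (w * t) ∈ centralizer (R : Set (G8 F)) := mem_centralizer_iff.2 fun r hr =>
    (opp_comm hw hwt (hl hr) (mem_centralizer_iff.1 (hT ht) r hr)).2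
  have hb := bl_cl hwt
  have hw3 := hwt.cl_mul'
  generalize cl l (-l) (w * t) = n at hn' hb hw3
  obtain ⟨w3, rfl⟩ : ∃ w3, n = w * t * w3⁻¹ := ⟨n⁻¹ * (w * t), by group⟩
  rw [show (w * t * w3⁻¹)⁻¹ * (w * t) = w3 by group] at hw3
  have hw3' : w3 ∈ centralizer (R : Set (G8 F)) := by
    rw [show w3 = (w * t * w3⁻¹)⁻¹ * (w * t) by group]
    exact mul_mem (inv_mem hn') (mul_mem hw' (hT ht))
  -- the torus element
  obtain ⟨φ, hφ, a₀, ha₀⟩ := exists_phi (l := l) fun e => hu1 (Ru_zero (e ▸ Rad_le_Ru l hu'))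
  obtain ⟨ζ, hζ⟩ := IsCyclic.exists_ofOrder_eq_natCard (α := Fˣ)
  rw [Nat.card_units] at hζ
  obtain ⟨s, hs0⟩ := exists_Tz φ ζ
  have hsq : ∀ k, s ^ k = 1 ↔ Nat.card F - 1 ∣ k := fun k => by
    rw [← hζ, orderOf_dvd_iff_pow_eq_one]
    exact ⟨fun e => (e ▸ hs0.pow k).eq_one' ha₀, fun e => (e ▸ hs0.pow k).eq_one⟩
  have hs' : s ∈ centralizer (R : Set (G8 F)) := mem_centralizer_iff.2 fun r hr => hs0.comm hφ (hl hr)
  have hinv := hs0.inv hφ hb
  have hcop := coprime_card (F := F) p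
  obtain ⟨h₀, hh₀⟩ : s ^ 2 ∈ τ.range := by
    have he : w * w3⁻¹ ∈ Ru F l := mul_mem hw (inv_mem hw3)
    have he' := mul_mem hw' (inv_mem hw3')
    have ht' := conj_mem_of_norm (hN hw3') ht
    rw [show w * t * w3⁻¹ = w * w3⁻¹ * (w3 * t * w3⁻¹) by group] at hinv
    generalize w * w3⁻¹ = e at he he' hinv
    generalize w3 * t * w3⁻¹ = t' at ht' hinv
    obtain ⟨k, hk⟩ := Ru_pow p (mul_mem ((tr_of (hs0.lev l).1).conj_Ru he) (inv_mem he))
    have h1 := pow_coset (b := s ^ 2) (hN (mul_mem (mul_mem (mul_mem hs' he') (inv_mem hs')) (inv_mem he'))) (by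
      have h2 : (s * e * s⁻¹ * e⁻¹)⁻¹ * s ^ 2 = e * (s * t' * s⁻¹ * t'⁻¹) * e⁻¹ :=
        calc _ = (s * e * s⁻¹ * e⁻¹)⁻¹ * s * (s * (e * t') * s) * s⁻¹ * (e * t')⁻¹ := by rw [sq]; group
          _ = _ := by rw [hinv]; group
      rw [h2]
      exact conj_mem_of_norm (hN he') (mul_mem (conj_mem_of_norm (hN hs') ht') (inv_mem ht'))) (p ^ k)
    rw [hk, inv_one, one_mul] at h1
    refine (zpowers_le.2 h1) (mem_zpowers_pow_iff.2 ?_)
    exact (hcop.pow_left k).coprime_dvd_right (orderOf_dvd_of_pow_eq_one (by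
      rw [← pow_mul]; exact (hsq _).2 (dvd_mul_left _ _)))
  have hz1 : s ^ 2 ≠ 1 := fun e => by
    have := Nat.le_of_dvd two_pos ((hsq 2).1 e)
    omega
  by_cases hc : ∃ v, v ≠ 1 ∧ τ v ∈ Rad F l
  · obtain ⟨v, hv, hv'⟩ := hc
    have h1 : orderOf h₀ ≠ 1 := fun e => hz1 (by rw [← hh₀, orderOf_eq_one_iff.1 e, map_one])
    have h2 := Nat.minFac_prime h1
    have h3 := Nat.minFac_dvd (orderOf h₀)
    have h4 := orderOf_pow_orderOf_div (orderOf_pos h₀).ne' h3
    generalize (orderOf h₀).minFac = r at h2 h3 h4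
    have h6 : τ (h₀ ^ (orderOf h₀ / r)) = s ^ (2 * (orderOf h₀ / r)) := by rw [map_pow, hh₀, pow_mul]
    have h7 := ml (p := p) c hA (P := (Rad F l).comap τ)
      (((isPGroup_Ru p l).to_le (Rad_le_Ru l)).comap_of_injective τ c.pair.inj) h2
      (fun e => (Fact.out : p.Prime).coprime_iff_not_dvd.1 hcop (e ▸ h3.trans (orderOf_dvd_of_pow_eq_one (c.pair.inj (by
        rw [map_pow, hh₀, map_one, ← pow_mul]
        exact (hsq _).2 (dvd_mul_left _ _))))))
      (h := h₀ ^ (orderOf h₀ / r)) (orderOf_dvd_iff_pow_eq_one.1 h4.dvd) (fun x hx => by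
        rw [mem_comap, map_mul, map_mul, map_inv, h6]
        exact Kem.Rad.conj (pow_mem (hs0.lev l).1 _) hx) (g₂ := 1) (m := l)
      ⟨by
        rintro _ ⟨x, hx, rfl⟩
        rwa [one_mul, inv_one, mul_one], fun g' l' h' =>
        hm (τ v) (hT ⟨v, rfl⟩) (fun e => hv (c.pair.inj (e.trans (map_one τ).symm))) g' l' (h' _ ⟨v, hv', rfl⟩)⟩
      (by rw [one_mul, inv_one, mul_one, h6]; exact (hs0.pow _).sc hφ)
    rw [h7, orderOf_one] at h4
    exact h2.one_lt.ne h4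
  push Not at hc
  have hz : ∀ x ∈ centralizer (R : Set (G8 F)), x ∈ Rad F l → s ^ 2 * x = x * s ^ 2 := fun x hx hx' => by
    have h1 : s ^ 2 * x * (s ^ 2)⁻¹ * x⁻¹ ∈ τ.range := by
      rw [show s ^ 2 * x * (s ^ 2)⁻¹ * x⁻¹ = s ^ 2 * (x * (s ^ 2)⁻¹ * x⁻¹) by group]
      exact mul_mem ⟨h₀, hh₀⟩ (conj_mem_of_norm (hN hx) (inv_mem ⟨h₀, hh₀⟩))
    obtain ⟨v, hv⟩ := h1
    have h2 : v = 1 := by
      by_contra e
      exact hc v e (hv ▸ mul_mem (Kem.Rad.conj (pow_mem (hs0.lev l).1 2) hx') (inv_mem hx'))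
    rw [h2, map_one, eq_comm, mul_inv_eq_one, mul_inv_eq_iff_eq_mul] at hv
    exact hv
  by_cases e5 : Nat.card F = 5
  · obtain ⟨v, hv⟩ := h5.resolve_left (not_not.2 e5) u hu hup _ ⟨h₀, hh₀⟩ hz1
      (by rw [← pow_mul]; exact (hsq _).2 (by rw [e5])) (hz u hu hu').symm
    exact hc v (fun e => hu1 (by rw [← hv, e, map_one])) (hv ▸ hu')
  have hinv2 : ∀ n, s * n * s = n → s ^ 2 * n * s ^ 2 = n := fun n e => by
    rw [show s ^ 2 * n * s ^ 2 = s * (s * n * s) * s by rw [sq]; group, e, e]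
  have h1 := mul_mem (mul_mem hw' hu) (inv_mem hw')
  have h2 := Kem.Rad.conj hw.1 hu'
  obtain ⟨y, hy, hp'⟩ := exists_pair2 (p := p) (a := w * u * w⁻¹) (b := w * t * u * (w * t)⁻¹)
    (by rw [conj_pow, hup, mul_one, mul_inv_cancel]) fun h => hp
      ((h.comap_of_injective (MulAut.conj w).toMonoidHom (MulAut.conj w).injective).to_le (by
        rw [closure_le]
        rintro _ (rfl | rfl)
        · exact subset_closure (Or.inl rfl)
        · refine subset_closure (Or.inr ?_)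
          show w * (t * u * t⁻¹) * w⁻¹ = _
          group))
  have h3 : closure {w * u * w⁻¹, w * t * u * (w * t)⁻¹} ≤ centralizer (R : Set (G8 F)) ⊓ centralizer {s ^ 2} := by
    rw [closure_le]
    rintro _ (rfl | rfl)
    · exact mem_inf.2 ⟨h1, mem_centralizer_singleton_iff.2 (hz _ h1 h2).symm⟩
    · have h3 := mul_mem hw' (hT ht)
      refine mem_inf.2 ⟨mul_mem (mul_mem h3 hu) (inv_mem h3), mem_centralizer_singleton_iff.2 ?_⟩
      have h4 := hz _ (mul_mem (mul_mem hw3' hu) (inv_mem hw3')) (Kem.Rad.conj hw3.1 hu')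
      have h6 := hinv2 _ hinv
      rw [show w * t * u * (w * t)⁻¹ = w * t * w3⁻¹ * (w3 * u * w3⁻¹) * (w * t * w3⁻¹)⁻¹ by group]
      generalize w * t * w3⁻¹ = n at h6
      generalize w3 * u * w3⁻¹ = x at h4
      generalize s ^ 2 = z at h4 h6
      have h7 : z * n = n * z⁻¹ := eq_mul_inv_of_mul_eq h6
      calc n * x * n⁻¹ * z = n * z⁻¹ * (z * x) * n⁻¹ * (z * n) * n⁻¹ := by group
        _ = z * n * (x * z) * n⁻¹ * (n * z⁻¹) * n⁻¹ := by rw [h4, h7]
        _ = _ := by group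
  obtain ⟨w2, hw2, hy2⟩ := hm.opp p hR hl h1 h2 (h3 hy).1 hp'
  have h4 := (opp_comm hw2 hy2 (pow_mem (hs0.lev l) 2) (mem_centralizer_singleton_iff.1 (h3 hy).2).symm).2
  have h6 := hinv2 _ (hs0.inv hφ (bl_cl hy2))
  rw [h4, mul_assoc, mul_eq_left, ← pow_add] at h6
  have h7 := (hsq _).1 h6
  have h8 := Nat.le_of_dvd (by norm_num) h7
  obtain e : Nat.card F - 1 = 3 := by omega
  rw [e] at h7
  exact absurd h7 (by norm_num)

theorem cr_conj {K : Type} [Field K] {A : Subgroup (G8 K)} (h : CR A) (g : G8 K) :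
    CR (A.map (MulAut.conj g).toMonoidHom) := fun g' l e => by
  obtain ⟨r, hr, h1⟩ := h (g' * g) l fun a ha => by
    have h1 := e _ ⟨a, ha, rfl⟩
    rwa [show g' * g * a * (g' * g)⁻¹ = g' * (g * a * g⁻¹) * g'⁻¹ by group]
  refine ⟨r, hr, ?_⟩
  rintro _ ⟨a, ha, rfl⟩
  have h2 := h1 a ha
  rwa [show r * (g' * g) * a * (r * (g' * g))⁻¹ = r * g' * (g * a * g⁻¹) * (r * g')⁻¹ by group] at h2

theorem dr_zpowers {K : Type} [Field K] {u g : G8 K} {l : Co} (h : g * u * g⁻¹ ∈ Rad K l) : DR (zpowers u) g l :=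
  fun _ ha => (zpowers_le (H := (Rad K l).comap (MulAut.conj g).toMonoidHom)).2 h ha

/-- **the centralizer of `R` has order prime to `p`** -/
theorem uni (hq : 4 ≤ Nat.card F) (h5 : Nat.card F ≠ 5 ∨ H5 p τ R) (c : Core τ α β R R') (hA : CR α.range) (hR : CR R) :
    ¬ p ∣ Nat.card (centralizer (R : Set (G8 F))) := by
  intro hp
  have := finite8 (F := F)
  obtain ⟨u₀, hu₀⟩ := exists_prime_orderOf_dvd_card' p hp
  let S := {u : G8 F // u ∈ centralizer (R : Set (G8 F)) ∧ u ≠ 1 ∧ IsPGroup p (zpowers u)}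
  have : Nonempty S := ⟨⟨u₀, u₀.2, fun e => (Fact.out : p.Prime).one_lt.ne (by
    rw [← hu₀, show u₀ = 1 from Subtype.ext e, orderOf_one]), IsPGroup.of_card (n := 1) (by
      rw [Nat.card_zpowers, orderOf_coe, hu₀, pow_one])⟩⟩
  choose g l ho using fun u : S => exists_opt p u.2.2.2
  obtain ⟨u, hu⟩ := Finite.exists_min fun u => nrm (l u)
  have hm : Mn R (nrm (l u)) := fun x hx hx1 g' l' e => by
    have h1 := dr_zpowers e
    refine (hu ⟨x, hx, hx1, ?_⟩).trans ((ho _).2 g' l' h1)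
    exact (((isPGroup_Ru p l').to_le (Rad_le_Ru l')).comap_of_injective (MulAut.conj g').toMonoidHom
      (MulAut.conj g').injective).to_le h1
  obtain ⟨r, hr, h1⟩ := cr_iff.1 hR (g u) (l u) fun x hx => opt_norm (ho u) fun a ha => by
    rw [mem_centralizer_iff.1 (zpowers_le.2 u.2.1 ha) x hx, mul_inv_cancel_right]
    exact ha
  have h2 := (ho u).1.tr (tr_of hr.1)
  obtain ⟨x, hx⟩ := exists_prime_orderOf_dvd_card' (G := zpowers u.1) p (by
    obtain ⟨k, hk⟩ := u.2.2.2.exists_card_eq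
    rcases k with _ | k
    · rw [pow_zero, Nat.card_zpowers, orderOf_eq_one_iff] at hk
      exact absurd hk u.2.2.1
    · exact hk ▸ dvd_pow_self p k.succ_ne_zero)
  refine uni0 (p := p) hq (h5.imp_right fun h => h.map _) (c.map (MulAut.conj (r * g u))) (by rw [range_comp_equiv]; exact cr_conj hA _) (cr_conj hR _)
    (l := l u) (by rintro _ ⟨a, ha, rfl⟩; exact h1 a ha) (hm.conj _) (u := r * g u * x * (r * g u)⁻¹)
    (mem_cent_conj.2 (zpowers_le.2 u.2.1 x.2)) (fun e => (Fact.out : p.Prime).one_lt.ne ?_) ?_ (h2 _ x.2)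
  · rw [mul_inv_eq_one, mul_eq_left] at e
    rw [show x = 1 from Subtype.ext e, orderOf_one] at hx
    exact hx
  · rw [conj_pow, ← coe_pow, orderOf_dvd_iff_pow_eq_one.1 hx.dvd, coe_one, mul_one, mul_inv_cancel]

end Cfsg.Agent.Cam.E8K
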