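import Cfsg.Agent.Cam.E8K.E
import Cfsg.Agent.Cam.E8.Crk3

/-!
# `E₈`: the characteristic does not divide the order of the component (helper65)
-/

set_option autoImplicit false
set_option linter.unusedVariables false

namespace Cfsg.Agent.Cam.E8K

open Cfsg Cfsg.Lie Subgroup
open Cfsg.Agent.E8A Cfsg.Agent.Cam.Spor

variable {F : Type} [Field F] [Finite F] (p : ℕ) [Fact p.Prime] [CharP F p] {U : Type} [Group U] [Finite U]
  {τ α β : U →* G8 F} {R R' : Subgroup (G8 F)}

/-- the centralizer of `R` has order prime to `p` -/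
theorem uni8 (hq : 4 ≤ Nat.card F) (h5 : Nat.card F ≠ 5 ∨ H5 p τ R) (c : Core τ α β R R') :
    ¬ p ∣ Nat.card (centralizer (R : Set (G8 F))) :=
  uni hq h5 c (E8.Crk.allCR8 c).a (E8.Crk.allCR8 c).r

/-- the component has order prime to `p` -/
theorem ml8 (hq : 4 ≤ Nat.card F) (h5 : Nat.card F ≠ 5 ∨ H5 p τ R) (c : Core τ α β R R') : ¬ p ∣ Nat.card U := by
  intro hp
  refine uni8 p hq h5 c (hp.trans ?_)
  have h1 : τ.range ≤ centralizer (R : Set (G8 F)) := by
    rintro _ ⟨u, rfl⟩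
    exact mem_centralizer_iff.2 fun r hr => (c.pair.comm u r hr).symm
  have h2 : Finite (G8 F) := finite8
  rw [Nat.card_congr (MonoidHom.ofInjective c.pair.inj).toEquiv]
  exact card_dvd_of_le h1

theorem le_card : p ≤ Nat.card F := by
  obtain ⟨n, hn, he⟩ := exists_card_eq p (F := F)
  exact he ▸ Nat.le_self_pow hn.ne' p

/-- characteristic two, `q ≥ 4` -/
theorem ml_two [CharP F 2] (hq : 4 ≤ Nat.card F) (c : Core τ α β R R') : ¬ 2 ∣ Nat.card U := by
  refine ml8 2 hq (Or.inl fun e => ?_) c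
  obtain ⟨n, hn, he⟩ := exists_card_eq 2 (F := F)
  exact absurd (e ▸ he ▸ dvd_pow_self 2 hn.ne' : 2 ∣ 5) (by norm_num)

end Cfsg.Agent.Cam.E8K
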